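import Groth.Agent.CurveH2.AffineNorm
import Groth.Agent.S0727
import Groth.Agent.S0686
import Groth.Agent.S9683
import Groth.Agent.S0133
import Groth.Agent.FlatDense.Basic
import Groth.Agent.ConsPropLib.QFFactor
import Groth.Agent.Semipurity.Tate
import Groth.Agent.EtFound.ConstrColim
import Groth.Agent.EtLC12.QcqsAcyclic

/-!
# Torsion cohomological dimension one of affine curves over an algebraically closed field
-/

set_option autoImplicit false
set_option backward.isDefEq.respectTransparency false
set_option backward.isDefEq.respectTransparency.types false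
set_option linter.style.haveILetI false

universe u

open CategoryTheory CategoryTheory.Limits AlgebraicGeometry Opposite CategoryTheory.Abelian

namespace Groth.Agent.CurveH2

open Groth.Agent.EtFound Groth.Agent.EtDiv Groth.Agent.MorLib.Birat

/-- The two extensions by zero of a constant sheaf agree. -/
theorem nonempty_extZeroConst_iso {X : Scheme.{u}} (U : X.Etale) (M : Type) [AddCommGroup M]
    [EtShriek.JCont U.hom] [AlgebraicGeometry.Etale U.hom] :
    Nonempty (EtPBC.extZeroConst U M ≅ (EtShriek.extZero U.hom).obj (EtCoh.const U.left M)) := by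
  let M' : AddCommGrpCat.{u + 1} := AddCommGrpCat.of (ULift.{u + 1} M)
  let i : (EtShriek.compEtale U.hom).obj (EtCoh.top U.left) ≅ U :=
    MorphismProperty.Over.isoMk (Iso.refl _) rfl
  let e := Adjunction.leftAdjointUniq
    ((constantSheafAdj (X.smallEtaleTopology.over U) AddCommGrpCat.{u + 1} Over.mkIdTerminal).comp (EtPBC.extZeroAdj U))
    (((constantSheafAdj U.left.smallEtaleTopology AddCommGrpCat.{u + 1} (EtCore.topIsTerminal U.left)).comp
      (EtShriek.extZeroAdj U.hom)).ofNatIsoRight (NatIso.ofComponents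
        (fun G => (G.obj.mapIso i.op).symm) fun {G G'} a => by
          exact (a.hom.naturality i.inv.op).symm))
  exact ⟨e.app M'⟩

variable {k : Type u} [Field k] [IsAlgClosed k] {X : Scheme.{u}} [IsAffine X] (g : X ⟶ Spec (CommRingCat.of k))
  [LocallyOfFiniteType g]

include g in
/-- Extensions by zero of constant sheaves from affine étale schemes have no `H²` on affine curves. -/
theorem subsingleton_H2_extZeroConst (hdim : topologicalKrullDim X ≤ 1) (U : X.Etale) [IsAffine U.left]
    (n : ℕ) (hn : 0 < n) : Subsingleton (EtCoh.H X (EtPBC.extZeroConst U (ZMod n)) 2) := by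
  let j : U.left ⟶ X := U.hom
  haveI : AlgebraicGeometry.Etale j := U.prop
  haveI : AlgebraicGeometry.Etale U.hom := U.prop
  haveI : IsAffineHom j := inferInstance
  haveI : EtShriek.JCont j := jCont j
  haveI : EtShriek.JCont U.hom := ‹EtShriek.JCont j›
  obtain ⟨T, i, π, hi, hπ, hiπ⟩ := ConsPropLib.exists_finite_factor j
  haveI := hi; haveI := hπ
  haveI : IsAffine T := isAffine_of_isAffineHom π
  haveI : QuasiCompact i := quasiCompact_of_compactSpace i
  let W := i.image
  let i' : U.left ⟶ W := i.toImage
  let π' : W ⟶ X := i.imageι ≫ π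
  haveI : IsFinite π' := inferInstanceAs (IsFinite (i.imageι ≫ π))
  haveI : IsAffine W := isAffine_of_isAffineHom π'
  haveI : IsOpenImmersion i' := inferInstanceAs (IsOpenImmersion i.toImage)
  haveI : IsDominant i' := inferInstanceAs (IsDominant i.toImage)
  have hj : j = i' ≫ π' := by
    show j = i.toImage ≫ i.imageι ≫ π
    rw [Scheme.Hom.toImage_imageι_assoc, hiπ]
  obtain ⟨e₁⟩ := nonempty_extZeroConst_iso U (ZMod n)
  obtain ⟨e₂⟩ := S0727.result j
  obtain ⟨e₃⟩ := S0686.result i' π' j hj
  refine RatCoh13.subsingleton_H_of_iso (e₁ ≪≫ (e₂ ≪≫ e₃).app (EtCoh.const U.left (ZMod n))).symm 2 ?_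
  obtain ⟨eH⟩ := S8575.nonempty_H_push π' ((EtShriek.extZero i').obj (EtCoh.const U.left (ZMod n))) 2
  refine @Equiv.subsingleton _ _ eH.toEquiv ?_
  haveI : LocallyOfFiniteType (π' ≫ g) := inferInstance
  haveI : QuasiCompact (π' ≫ g) := quasiCompact_of_compactSpace _
  have hW : topologicalKrullDim W ≤ 1 := (S9683.result π').1.trans hdim
  haveI : IsLocallyNoetherian W := LocallyOfFiniteType.isLocallyNoetherian (π' ≫ g)
  obtain ⟨er⟩ := Semipurity.nonempty_restr_const_iso i' (ZMod n)
  refine RatCoh13.subsingleton_H_of_iso ((EtShriek.extZero i').mapIso er) 2 ?_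
  refine @Function.Injective.subsingleton _ _ _ (Curve11.comp_bijective (π' ≫ g) ((EtShriek.extZeroAdj i').counit.app (EtCoh.const W (ZMod n)))
    (fun Ω _ _ ξ hξ => isIso_stalk_of_lift i' _ ξ ?_ fun L _ _ z => isIso_counit_stalk i' z _) hW 0).1 (subsingleton_H2_const_affine (π' ≫ g) hW n hn)
  exact FlatDense.mem_of_dense_of_max_scheme i'.opensRange i'.denseRange
    fun y hy => eq_of_specializes_generic hξ hy

include g in
/-- An affine curve over an algebraically closed field has torsion cohomological dimension one. -/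
theorem cohDimLE_one_affine (hdim : topologicalKrullDim X ≤ 1) : EtCoh.CohDimLE X 1 := by
  classical
  haveI : IsLocallyNoetherian X := LocallyOfFiniteType.isLocallyNoetherian g
  haveI : AlgebraicGeometry.IsNoetherian X := ⟨⟩
  haveI : QuasiCompact g := quasiCompact_of_compactSpace g
  intro F hF q hq
  rcases Nat.lt_or_ge 2 q with h3 | h2
  · exact (Curve11.cohDimLE_two g hdim) F hF q h3
  obtain rfl : q = 2 := by omega
  have hgen : ∀ G : Finset (TorsGen F), Subsingleton (EtCoh.H X (genSum F G) 2) := fun G =>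
    subsingleton_H_biproduct _ 2 fun x => by
      haveI := x.1.aff
      exact subsingleton_H2_extZeroConst g hdim x.1.U x.1.n x.1.pos
  have hst : ∀ j : TorsStage F, Subsingleton (EtCoh.H X ((stageFunctor F).obj j) 2) := fun j => by
    have hI : EtCoh.IsTorsion (Abelian.image j.relMap) := by
      obtain ⟨N, hN, h⟩ := exists_nsmul_genSum j.gens
      intro W s x
      exact ⟨W, 𝟙 W, ⟨x, rfl⟩, isOfFinAddOrder_iff_nsmul_eq_zero.2 ⟨N, hN, by
        rw [op_id, CategoryTheory.Functor.map_id]
        exact (killedBy_iff_nsmul N _).2 (nsmul_of_mono (Abelian.image.ι j.relMap) h) W s⟩⟩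
    have hS : (ShortComplex.mk (Abelian.image.ι j.relMap) (cokernel.π j.relMap)
        (kernel.condition (cokernel.π j.relMap))).ShortExact := Curve11.shortExact_image_cokernel j.relMap
    refine subsingleton_of_forall_eq 0 fun c => ?_
    obtain ⟨b, hb⟩ := Ext.covariant_sequence_exact₃ _ hS c (rfl : 2 + 1 = 3)
      (@Subsingleton.elim _ ((Curve11.cohDimLE_two g hdim) _ hI 3 (by norm_num)) _ _)
    rw [← hb, @Subsingleton.elim (EtCoh.H X (genSum F j.gens) 2) (hgen j.gens) b 0, Ext.zero_comp]
  obtain ⟨hc⟩ := nonempty_isColimit_stageCocone (F := F) hF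
  haveI := EtLC12.QcqsAcyclic.preservesColimitsOfShape_HF X 2 (TorsStage F)
  let hl := isColimitOfPreserves (EtCoh.HF X 2) hc
  refine subsingleton_of_forall_eq 0 fun x => ?_
  obtain ⟨j, y, hy⟩ := Concrete.isColimit_exists_rep _ hl x
  rw [← hy, @Subsingleton.elim (EtCoh.H X ((stageFunctor F).obj j) 2) (hst j) y 0]
  exact map_zero ((EtCoh.HF X 2).map ((stageCocone F).ι.app j)).hom

end Groth.Agent.CurveH2
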