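import Groth.Agent.CurveH2.ConstCurve
import Groth.Agent.Curve11.SuppVanish
import Groth.Agent.NormCurve.Nagata
import Groth.Agent.NagataLib.Field
import Groth.Agent.SiteBase.EtExcision.Projection
import Groth.Agent.CurveCohLib.RegularCurve
import Groth.Agent.S8575
import Mathlib.RingTheory.DedekindDomain.IntegralClosure
import Mathlib.RingTheory.DedekindDomain.Dvr

/-!
# Vanishing of `H²` with constant cyclic coefficients on affine curves
-/

set_option autoImplicit false
set_option backward.isDefEq.respectTransparency false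
set_option backward.isDefEq.respectTransparency.types false
set_option linter.style.haveILetI false

universe u

open CategoryTheory CategoryTheory.Limits AlgebraicGeometry Opposite CategoryTheory.Abelian

namespace Groth.Agent.CurveH2

open Groth.Agent.EtFound Groth.Agent.EtDiv Groth.Agent.MorLib.Birat

variable {k : Type u} [Field k] [IsAlgClosed k]

/-- A scheme all whose points are closed has no higher cohomology. -/
theorem subsingleton_H_of_closed_points {W : Scheme.{u}} (g : W ⟶ Spec (CommRingCat.of k))
    [LocallyOfFiniteType g] [QuasiCompact g] (h : ∀ x : W, IsClosed ({x} : Set W)) (F : EtCoh.Ab W) (q : ℕ)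
    (hq : 0 < q) : Subsingleton (EtCoh.H W F q) :=
  S0171.result W g F (fun x _ => h x) q hq

/-- The normalisation of an irreducible component of an affine curve. -/
theorem exists_normalization {W : Scheme.{u}} (g : W ⟶ Spec (CommRingCat.of k)) [IsAffine W]
    [LocallyOfFiniteType g] (hdim : topologicalKrullDim W ≤ 1) {η : W} (hη : η ∈ genericPoints W)
    (n : ℕ) (hn : 0 < n) :
    ∃ (W' : Scheme.{u}) (ν : W' ⟶ W), IsFinite ν ∧ Set.range ν.base ⊆ closure {η} ∧
      Subsingleton (EtCoh.H W' (EtCoh.const W' (ZMod n)) 2) ∧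
      ∀ (Ω : Type u) [Field Ω] [IsAlgClosed Ω] (ξ : Spec (CommRingCat.of Ω) ⟶ W),
        ξ.base (default : Spec (CommRingCat.of Ω)) = η →
          Nonempty (Unique {ξ' : Spec (CommRingCat.of Ω) ⟶ W' // ξ' ≫ ν = ξ}) := by
  let A := Γ(W, ⊤)
  letI : Algebra k A := ((Scheme.ΓSpecIso (CommRingCat.of k)).inv ≫ g.appTop).hom.toAlgebra
  haveI : Algebra.FiniteType k A := by
    have h : g.appTop.hom.FiniteType := (HasRingHomProperty.iff_of_isAffine (P := @LocallyOfFiniteType)).1 inferInstance
    exact (RingHom.finiteType_algebraMap).1 (h.comp (RingHom.FiniteType.of_surjective _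
      (Scheme.ΓSpecIso (CommRingCat.of k)).commRingCatIsoToRingEquiv.symm.surjective))
  let e := W.isoSpec
  let p : Ideal A := (e.hom.base η).asIdeal
  haveI : p.IsPrime := (e.hom.base η).isPrime
  -- primes above the generic point are maximal
  have habove : ∀ P : Ideal A, P.IsPrime → p ≤ P → P ≠ p → P.IsMaximal := by
    intro P hP hle hne
    let y : W := e.inv.base ⟨P, hP⟩
    have hey : e.hom.base y = ⟨P, hP⟩ := by
      show e.hom (e.inv _) = _
      rw [← Scheme.Hom.comp_apply, e.inv_hom_id]
      rfl
    have hsp : η ⤳ y := by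
      have h1 : e.hom.base η ⤳ e.hom.base y := by
        rw [hey]
        exact (PrimeSpectrum.le_iff_specializes _ _).1 hle
      exact e.hom.isOpenEmbedding.isInducing.specializes_iff.1 h1
    have hy : y ∉ genericPoints W := fun hy => hne (by
      have := eq_of_specializes_generic hy hsp
      exact congrArg PrimeSpectrum.asIdeal (hey.symm.trans (congrArg e.hom.base this.symm)))
    have hc := (e.hom.homeomorph.isClosed_image.2 (isClosed_of_notMem_genericPoints hdim hy))
    rw [Set.image_singleton] at hc
    have hc' : IsClosed ({(⟨P, hP⟩ : PrimeSpectrum A)} : Set (PrimeSpectrum A)) := hey ▸ hc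
    exact (PrimeSpectrum.isClosed_singleton_iff_isMaximal _).1 hc'
  let R := A ⧸ p
  let K := FractionRing R
  haveI : Module.Finite R (integralClosure R K) :=
    NormCurve.finite_integralClosure_of_nagata (NagataLib.isNagata_of_finiteType k R) K
  haveI : IsNoetherianRing R := Algebra.FiniteType.isNoetherianRing k R
  let B := integralClosure R K
  haveI : IsNoetherianRing B := IsNoetherianRing.of_finite R B
  haveI : IsFractionRing B K := integralClosure.isFractionRing_of_finite_extension K K
  haveI : IsIntegrallyClosed B := integralClosure.isIntegrallyClosedOfFiniteExtension K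
  haveI : Algebra.IsIntegral R B := Algebra.IsIntegral.of_finite R B
  let ψ : A →+* B := (algebraMap R B).comp (Ideal.Quotient.mk p)
  have hψ : ψ.Finite := RingHom.Finite.comp (RingHom.finite_algebraMap.2 inferInstance)
    (RingHom.Finite.of_surjective _ Ideal.Quotient.mk_surjective)
  have hψk : p ≤ RingHom.ker ψ := fun a ha => by
    show algebraMap R B (Ideal.Quotient.mk p a) = 0
    rw [Ideal.Quotient.eq_zero_iff_mem.2 ha, map_zero]
  have hmax : ∀ q : Ideal B, q.IsPrime → q ≠ ⊥ → q.IsMaximal := by
    intro q hq hq0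
    haveI : (q.comap (algebraMap R B)).IsMaximal := by
      have hne : q.comap (algebraMap R B) ≠ ⊥ := fun h => hq0 (Ideal.eq_bot_of_comap_eq_bot h)
      let P := (q.comap (algebraMap R B)).comap (Ideal.Quotient.mk p)
      have hP : P.IsMaximal := habove P inferInstance
        (fun a ha => by
          show Ideal.Quotient.mk p a ∈ q.comap (algebraMap R B)
          rw [Ideal.Quotient.eq_zero_iff_mem.2 ha]; exact Submodule.zero_mem _)
        fun h => hne (by
          rw [← Ideal.map_comap_of_surjective _ Ideal.Quotient.mk_surjective (q.comap (algebraMap R B))]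
          show P.map _ = ⊥
          rw [h, Ideal.map_quotient_self])
      rw [← Ideal.map_comap_of_surjective _ Ideal.Quotient.mk_surjective (q.comap (algebraMap R B))]
      exact ((Ideal.map_eq_top_or_isMaximal_of_surjective _ Ideal.Quotient.mk_surjective hP).resolve_left
        fun h => (inferInstance : (q.comap (algebraMap R B)).IsPrime).ne_top (by
          rwa [Ideal.map_comap_of_surjective _ Ideal.Quotient.mk_surjective] at h))
    exact Ideal.isMaximal_of_isIntegral_of_isMaximal_comap (R := R) q inferInstance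
  let W' := Spec (CommRingCat.of B)
  let ν : W' ⟶ W := Spec.map (CommRingCat.ofHom ψ) ≫ e.inv
  haveI : IsFinite (Spec.map (CommRingCat.ofHom ψ)) := (IsFinite.SpecMap_iff _).2 hψ
  haveI hν : IsFinite ν := inferInstanceAs (IsFinite (Spec.map (CommRingCat.ofHom ψ) ≫ e.inv))
  have heη : ∀ y : W', e.hom.base (ν.base y) = Spec.map (CommRingCat.ofHom ψ) y := fun y => by
    show e.hom ((Spec.map (CommRingCat.ofHom ψ) ≫ e.inv) y) = _
    rw [← Scheme.Hom.comp_apply, Category.assoc, e.inv_hom_id]
    erw [Category.comp_id]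
    rfl
  refine ⟨W', ν, hν, ?_, ?_, ?_⟩
  · rintro _ ⟨y, rfl⟩
    refine specializes_iff_mem_closure.1 (e.hom.isOpenEmbedding.isInducing.specializes_iff.1 ?_)
    rw [heη y]
    refine (PrimeSpectrum.le_iff_specializes _ _).1 fun a ha => ?_
    show ψ a ∈ y.asIdeal
    rw [show ψ a = 0 from hψk ha]
    exact Submodule.zero_mem _
  · haveI : LocallyOfFiniteType (ν ≫ g) := inferInstance
    haveI : QuasiCompact (ν ≫ g) := inferInstance
    by_cases hB : IsField B
    · refine subsingleton_H_of_closed_points (ν ≫ g) (fun x => ?_) _ 2 two_pos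
      haveI : Subsingleton W' := by
        letI := hB.toField
        exact inferInstanceAs (Subsingleton (PrimeSpectrum B))
      rw [show ({x} : Set W') = Set.univ from Set.eq_univ_of_forall fun z => Subsingleton.elim z x]
      exact isClosed_univ
    · haveI : Ring.DimensionLEOne B := ⟨fun {q} hq0 hq => hmax q hq hq0⟩
      haveI : IsDedekindRing B := { }
      haveI : IsDedekindDomain B := { }
      letI : W'.Over (Spec (CommRingCat.of k)) := ⟨ν ≫ g⟩
      haveI : LocallyOfFiniteType (W' ↘ Spec (CommRingCat.of k)) := inferInstanceAs (LocallyOfFiniteType (ν ≫ g))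
      haveI : Smooth (ν ≫ g) := CurveCohLib.RegularCurve.smooth_of_regular k (X := W') fun x hx => by
        have hxm : x.asIdeal.IsMaximal := (PrimeSpectrum.isClosed_singleton_iff_isMaximal _).1 hx
        have hx0 : x.asIdeal ≠ ⊥ := fun h => by
          obtain ⟨q, hq0, hq⟩ := Ring.not_isField_iff_exists_prime.1 hB
          exact hq0 ((hxm.eq_of_le hq.ne_top (by rw [h]; exact bot_le)).symm.trans h)
        letI : Algebra B ((Spec (CommRingCat.of B)).presheaf.stalk x) := StructureSheaf.stalkAlgebra _ x
        haveI : IsLocalization.AtPrime ((Spec (CommRingCat.of B)).presheaf.stalk x) x.asIdeal :=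
          StructureSheaf.IsLocalization.to_stalk _ x
        haveI : IsDomain ((Spec (CommRingCat.of B)).presheaf.stalk x) :=
          IsLocalization.isDomain_of_atPrime (A := B) _ x.asIdeal
        haveI : IsDiscreteValuationRing ((Spec (CommRingCat.of B)).presheaf.stalk x) :=
          IsLocalization.AtPrime.isDiscreteValuationRing_of_dedekind_domain B hx0 _
        infer_instance
      haveI : IsIntegral W' := inferInstanceAs (IsIntegral (Spec (CommRingCat.of B)))
      refine subsingleton_H2_const_smooth (ν ≫ g) ?_ n hn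
      show topologicalKrullDim (PrimeSpectrum B) = 1
      rw [PrimeSpectrum.topologicalKrullDim_eq_ringKrullDim]
      refine le_antisymm ?_ ?_
      · exact Ring.krullDimLE_iff.1 (Ring.krullDimLE_one_iff_of_noZeroDivisors.2 fun q hq0 hq => hmax q hq hq0)
      · obtain ⟨q, hq0, hq⟩ := Ring.not_isField_iff_exists_prime.1 hB
        exact Order.one_le_krullDim_iff.2 ⟨⟨⊥, Ideal.isPrime_bot⟩, ⟨q, hq⟩,
          (bot_lt_iff_ne_bot.2 hq0 : (⊥ : Ideal B) < q)⟩
  · intro Ω _ _ ξ hξ
    obtain ⟨φ, hφ⟩ : ∃ φ : A ⟶ CommRingCat.of Ω, Spec.map φ = ξ ≫ e.hom := ⟨_, Spec.map_preimage _⟩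
    have hker : RingHom.ker φ.hom = p := by
      show _ = (e.hom.base η).asIdeal
      rw [← hξ]
      show _ = ((ξ ≫ e.hom).base default).asIdeal
      rw [← hφ]
      show _ = Ideal.comap φ.hom (default : Spec (CommRingCat.of Ω)).asIdeal
      rw [Ideal.eq_bot_of_prime (default : Spec (CommRingCat.of Ω)).asIdeal]
      rfl
    let φb : R →+* Ω := Ideal.Quotient.lift p φ.hom fun a ha => by rwa [← hker, RingHom.mem_ker] at ha
    have hinj : Function.Injective φb :=
      (injective_iff_map_eq_zero φb).2 fun r hr => by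
        obtain ⟨a, rfl⟩ := Ideal.Quotient.mk_surjective r
        rw [Ideal.Quotient.eq_zero_iff_mem, ← hker, RingHom.mem_ker]
        exact hr
    let Φ : K →+* Ω := IsFractionRing.lift hinj
    let χ : B →+* Ω := Φ.comp B.val.toRingHom
    have hχ : ∀ r : R, χ (algebraMap R B r) = φb r := fun r => IsFractionRing.lift_algebraMap hinj r
    have hcomp : CommRingCat.ofHom ψ ≫ CommRingCat.ofHom χ = φ := CommRingCat.hom_ext (RingHom.ext fun a => hχ _)
    refine ⟨⟨⟨⟨Spec.map (CommRingCat.ofHom χ), ?_⟩⟩, ?_⟩⟩
    · show _ ≫ Spec.map (CommRingCat.ofHom ψ) ≫ e.inv = ξ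
      rw [← Category.assoc, ← Spec.map_comp, hcomp, hφ, Category.assoc, e.hom_inv_id, Category.comp_id]
    rintro ⟨ξ', hξ'⟩
    refine Subtype.ext ?_
    obtain ⟨χ', rfl⟩ : ∃ χ' : CommRingCat.of B ⟶ CommRingCat.of Ω, Spec.map χ' = ξ' :=
      ⟨_, Spec.map_preimage ξ'⟩
    have h2 : CommRingCat.ofHom ψ ≫ χ' = φ := Spec.map_injective (by
      rw [Spec.map_comp, hφ, ← hξ']
      simp [ν])
    refine congrArg Spec.map (CommRingCat.hom_ext (RingHom.ext fun b => ?_))
    obtain ⟨a, s, hs, hab⟩ := IsFractionRing.div_surjective (A := R) (b.1 : K)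
    have hs0 : φb s ≠ 0 := fun h => nonZeroDivisors.ne_zero hs (hinj (h.trans (map_zero φb).symm))
    have hmul : b * algebraMap R B s = algebraMap R B a := Subtype.ext (by
      show b.1 * algebraMap R K s = algebraMap R K a
      rw [← hab, div_mul_cancel₀]
      exact fun h => nonZeroDivisors.ne_zero hs (IsFractionRing.injective R K (h.trans (map_zero _).symm)))
    have hχ' : ∀ r : R, χ'.hom (algebraMap R B r) = φb r := fun r => by
      obtain ⟨a, rfl⟩ := Ideal.Quotient.mk_surjective r
      exact congrArg (fun m => m.hom a) h2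
    have e1 := congrArg χ'.hom hmul
    have e2 := congrArg χ hmul
    rw [map_mul, hχ', hχ'] at e1
    rw [map_mul, hχ, hχ] at e2
    exact mul_right_cancel₀ hs0 (e1.trans e2.symm)

/-- A finite morphism with a single lift of a geometric point has the unit bijective on that stalk. -/
theorem isIso_stalk_unit_of_unique {X Y : Scheme.{u}} (ν : X ⟶ Y) [IsFinite ν] (G : EtCoh.Ab Y)
    {Ω : Type u} [Field Ω] [IsSepClosed Ω] (ξ : Spec (CommRingCat.of Ω) ⟶ Y)
    (h : ∀ (L : Type u) [Field L] [IsAlgClosed L] (l : Spec (CommRingCat.of L) ⟶ Spec (CommRingCat.of Ω)),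
      Nonempty (Unique {z : Spec (CommRingCat.of L) ⟶ X // z ≫ ν = l ≫ ξ})) :
    IsIso ((EtCoh.stalk ξ).map ((EtCoh.pullPushAdj ν).unit.app G)) := by
  let L := AlgebraicClosure Ω
  let l : Spec (CommRingCat.of L) ⟶ Spec (CommRingCat.of Ω) := Spec.map (CommRingCat.ofHom (algebraMap Ω L))
  refine (NatIso.isIso_map_iff (EtFound.stalkExtIso AddCommGrpCat.{u + 1} ξ l) _).2 ?_
  obtain ⟨hu⟩ := h L l
  haveI := hu
  have hb := EtFound.pushStalkAt_bijective (η := l ≫ ξ) ν ((EtCoh.pull ν).obj G)
  haveI h1 : IsIso ((EtFound.pushStalkAt ν (default : {z : Spec (CommRingCat.of L) ⟶ X // z ≫ ν = l ≫ ξ}).2).app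
      ((EtCoh.pull ν).obj G)) := by
    refine (ConcreteCategory.isIso_iff_bijective _).2 ⟨fun a b hab => hb.1 (funext fun z => ?_), fun c => ?_⟩
    · obtain rfl : z = default := Subsingleton.elim _ _
      exact hab
    · obtain ⟨a, ha⟩ := hb.2 (uniqueElim c)
      exact ⟨a, by simpa using congrFun ha default⟩
  exact @IsIso.of_isIso_comp_right _ _ _ _ _ _ _ h1
    (EtExcision.isIso_unit_pushStalkAt ν (default : {z : Spec (CommRingCat.of L) ⟶ X // z ≫ ν = l ≫ ξ}).2 G)

/-- Cohomology of a finite sum vanishes with that of the summands. -/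
theorem subsingleton_H_biproduct {X : Scheme.{u}} {ι : Type*} [Finite ι] (f : ι → EtCoh.Ab X) [HasBiproduct f]
    (q : ℕ) (h : ∀ i, Subsingleton (EtCoh.H X (f i) q)) : Subsingleton (EtCoh.H X (⨁ f) q) := by
  classical
  haveI := Fintype.ofFinite ι
  refine subsingleton_of_forall_eq 0 fun a => ?_
  rw [← Ext.comp_mk₀_id a, show 𝟙 (⨁ f) = ∑ i, biproduct.π f i ≫ biproduct.ι f i from
    biproduct.hom_ext _ _ fun j => by
      rw [Category.id_comp, Preadditive.sum_comp, Finset.sum_eq_single j]
      · exact ((Category.assoc _ _ _).trans ((congrArg _ (biproduct.ι_π_self f j)).trans (Category.comp_id _))).symm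
      · exact fun x _ hx => (Category.assoc _ _ _).trans ((congrArg _ (biproduct.ι_π_ne f hx)).trans comp_zero)
      · exact fun h => absurd (Finset.mem_univ j) h, Ext.mk₀_sum, Ext.comp_sum]
  refine Finset.sum_eq_zero fun i _ => ?_
  rw [← Ext.mk₀_comp_mk₀, ← Ext.comp_assoc_of_third_deg_zero,
    @Subsingleton.elim _ (h i) (a.comp (Ext.mk₀ (biproduct.π f i)) (add_zero q)) 0, Ext.zero_comp]

/-- `H²(W, ℤ/n) = 0` on an affine curve over an algebraically closed field. -/
theorem subsingleton_H2_const_affine {W : Scheme.{u}} (g : W ⟶ Spec (CommRingCat.of k)) [IsAffine W]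
    [LocallyOfFiniteType g] (hdim : topologicalKrullDim W ≤ 1) (n : ℕ) (hn : 0 < n) :
    Subsingleton (EtCoh.H W (EtCoh.const W (ZMod n)) 2) := by
  classical
  haveI : IsLocallyNoetherian W := LocallyOfFiniteType.isLocallyNoetherian g
  haveI : AlgebraicGeometry.IsNoetherian W := ⟨⟩
  choose W' ν hν hr hH hu using fun η : Gen W => exists_normalization g hdim η.2 n hn
  let f := fun η : Gen W => (EtCoh.push (ν η)).obj (EtCoh.const (W' η) (ZMod n))
  let Λ := EtCoh.const W (ZMod n)
  let c := fun η : Gen W => (EtCoh.pullPushAdj (ν η)).unit.app Λ ≫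
    (EtCoh.push (ν η)).map (EtCore.pullConst (ν η) (ZMod n)).hom
  let φ : Λ ⟶ ⨁ f := biproduct.lift c
  have hφ : ∀ (Ω : Type u) [Field Ω] [IsSepClosed Ω] (ξ : Spec (CommRingCat.of Ω) ⟶ W),
      ξ.base (default : Spec (CommRingCat.of Ω)) ∈ genericPoints W → IsIso ((EtCoh.stalk ξ).map φ) := by
    intro Ω _ _ ξ hξ
    let η : Gen W := ⟨_, hξ⟩
    let st := EtCoh.stalk ξ
    haveI : (EtCoh.stalk ξ).Additive := Functor.additive_of_preserves_binary_products _
    haveI : st.Additive := ‹_›
    have hz : ∀ η' : Gen W, η' ≠ η → IsZero (st.obj (f η')) := fun η' h => by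
      refine Curve11.isZero_stalk_push_of_notMem (ν η') isClosed_closure (hr η') _ ξ fun h' => h ?_
      exact Subtype.ext (eq_of_specializes_generic hξ (specializes_iff_mem_closure.2 h'))
    have h1 : st.map (biproduct.π f η) ≫ st.map (biproduct.ι f η) = 𝟙 _ := by
      rw [← CategoryTheory.Functor.map_id, show 𝟙 (⨁ f) = ∑ η, biproduct.π f η ≫ biproduct.ι f η from
        biproduct.hom_ext _ _ fun j => by
          rw [Category.id_comp, Preadditive.sum_comp, Finset.sum_eq_single j]
          · exact ((Category.assoc _ _ _).trans ((congrArg _ (biproduct.ι_π_self f j)).trans (Category.comp_id _))).symm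
          · exact fun x _ hx => (Category.assoc _ _ _).trans ((congrArg _ (biproduct.ι_π_ne f hx)).trans comp_zero)
          · exact fun h => absurd (Finset.mem_univ j) h, Functor.map_sum, Finset.sum_eq_single η]
      · rw [Functor.map_comp]
      · intro x _ hx
        rw [Functor.map_comp, (hz x hx).eq_of_tgt (st.map (biproduct.π f x)) 0, zero_comp]
      · exact fun h => absurd (Finset.mem_univ η) h
    haveI : IsIso (st.map (biproduct.π f η)) :=
      ⟨st.map (biproduct.ι f η), h1, by rw [← Functor.map_comp, biproduct.ι_π_self, CategoryTheory.Functor.map_id]⟩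
    haveI := hν η
    haveI : IsIso (st.map ((EtCoh.pullPushAdj (ν η)).unit.app Λ)) :=
      isIso_stalk_unit_of_unique (ν η) Λ ξ fun L _ _ l => hu η L (l ≫ ξ) (by
        rw [Scheme.Hom.comp_apply]
        exact congrArg ξ.base (Subsingleton.elim _ _))
    haveI : IsIso (st.map φ ≫ st.map (biproduct.π f η)) := by
      rw [← Functor.map_comp, biproduct.lift_π, Functor.map_comp]
      infer_instance
    exact IsIso.of_isIso_comp_right (st.map φ) (st.map (biproduct.π f η))
  haveI : Subsingleton (EtCoh.H W (⨁ f) 2) := subsingleton_H_biproduct f 2 fun η => by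
    haveI := hν η
    obtain ⟨e⟩ := S8575.nonempty_H_push (ν η) (EtCoh.const (W' η) (ZMod n)) 2
    haveI := hH η
    exact e.toEquiv.subsingleton
  exact (Curve11.comp_bijective g φ hφ hdim 0).1.subsingleton

end Groth.Agent.CurveH2
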