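import Groth.Agent.CurveH2.CoordPoint
import Groth.Agent.EtDiv.GenTorsion
import Mathlib.RingTheory.DiscreteValuationRing.TFAE
import Mathlib.AlgebraicGeometry.AlgClosed.Basic

/-!
# Local rings of a smooth curve
-/

set_option autoImplicit false
set_option backward.isDefEq.respectTransparency false
set_option backward.isDefEq.respectTransparency.types false
set_option linter.style.haveILetI false

universe u

open CategoryTheory CategoryTheory.Limits AlgebraicGeometry Opposite TopologicalSpace

namespace Groth.Agent.CurveH2

theorem isClosed_of_ne_generic {C : Scheme.{u}} [IsIntegral C]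
    (hdim : topologicalKrullDim C ≤ 1) {y : C} (hy : y ≠ genericPoint C) : IsClosed ({y} : Set C) := by
  refine EtDiv.isClosed_of_notMem_genericPoints hdim fun h => hy ?_
  exact (MorLib.Birat.eq_of_specializes_generic h (genericPoint_specializes y)).symm

variable {k : Type u} [Field k] [IsAlgClosed k] {C : Scheme.{u}} (f : C ⟶ Spec (CommRingCat.of k))
  [Smooth f] [IsSeparated f] [IsIntegral C]

/-- A rational point at a closed point of an affine coordinate domain. -/
theorem Coord.exists_point (c : Coord f) {w : C} (hw : IsClosed ({w} : Set C)) (hwV : w ∈ c.V) :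
    ∃ (b : Spec (CommRingCat.of k) ⟶ c.V.toScheme) (_ : b ≫ c.str = 𝟙 _), c.pt b = w := by
  let z := (pointEquivClosedPoint f).symm ⟨w, hw⟩
  have hz : z.1 (IsLocalRing.closedPoint k) = w := by
    have := congrArg Subtype.val ((pointEquivClosedPoint f).apply_symm_apply ⟨w, hw⟩)
    rwa [pointEquivClosedPoint_apply_coe] at this
  have hr : Set.range z.1 ⊆ Set.range c.V.ι := by
    rintro _ ⟨t, rfl⟩
    rw [Scheme.Opens.range_ι, show t = IsLocalRing.closedPoint k from Subsingleton.elim _ _, hz]
    exact hwV
  refine ⟨IsOpenImmersion.lift c.V.ι z.1 hr, ?_, ?_⟩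
  · show _ ≫ c.V.ι ≫ f = _
    rw [IsOpenImmersion.lift_fac_assoc]
    exact z.2
  · show c.V.ι _ = w
    rw [← Scheme.Hom.comp_apply, IsOpenImmersion.lift_fac]
    exact hz

include f in
/-- The local rings at closed points of a smooth curve are discrete valuation rings. -/
theorem isDVR_stalk (hdim : topologicalKrullDim C = 1) (x : C) (hx : IsClosed ({x} : Set C)) :
    IsDiscreteValuationRing (C.presheaf.stalk x) := by
  haveI : IsLocallyNoetherian C := LocallyOfFiniteType.isLocallyNoetherian f
  obtain ⟨c, hxV⟩ := exists_coord f hdim x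
  obtain ⟨b, hb, rfl⟩ := c.exists_point f hx hxV
  have hspan := c.span_germ b hb
  have hnf : ¬ IsField (C.presheaf.stalk (c.pt b)) := by
    intro h
    haveI : Subsingleton (Spec (C.presheaf.stalk (c.pt b))) := by
      letI := h.toField
      exact inferInstanceAs (Subsingleton (PrimeSpectrum (C.presheaf.stalk (c.pt b))))
    obtain ⟨z, hz⟩ : genericPoint C ∈ Set.range (C.fromSpecStalk (c.pt b)) := by
      rw [Scheme.range_fromSpecStalk]; exact (genericPoint_spec C).specializes trivial
    rw [Subsingleton.elim z (IsLocalRing.closedPoint _), Scheme.fromSpecStalk_closedPoint] at hz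
    have huniv : ({c.pt b} : Set C) = Set.univ := by
      rw [← hx.closure_eq, hz]; exact genericPoint_spec C
    have : topologicalKrullDim C ≤ 0 := by
      haveI : Subsingleton C := ⟨fun p q => by
        have hp : p ∈ ({c.pt b} : Set C) := huniv ▸ trivial
        have hq : q ∈ ({c.pt b} : Set C) := huniv ▸ trivial
        exact hp.trans hq.symm⟩
      exact topologicalKrullDim_zero_of_discreteTopology C
    rw [hdim] at this
    exact absurd this (by norm_num)
  refine ((IsDiscreteValuationRing.TFAE (C.presheaf.stalk (c.pt b)) hnf).out 0 4).2 ?_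
  exact ⟨⟨_, hspan.symm⟩⟩

end Groth.Agent.CurveH2
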