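import Groth.Agent.CurveH2.Res
import Mathlib.AlgebraicGeometry.FunctionField

/-!
# Classes of points on a regular curve generate `H¹(X, G_m)`
-/

set_option autoImplicit false
set_option backward.isDefEq.respectTransparency false
set_option backward.isDefEq.respectTransparency.types false

universe u

open CategoryTheory CategoryTheory.Limits AlgebraicGeometry Opposite TopologicalSpace CategoryTheory.Abelian

namespace Groth.Agent.CurveH2

open Groth.Agent.EtFound Groth.Agent.GmH1Lib Groth.Agent.AModX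

variable {X : Scheme.{u}}

/-- The map between two opens. -/
noncomputable abbrev zoMap {W V : X.Opens} (h : W ≤ V) : ZO W ⟶ ZO V := (EtZar.zarToEt X).map (homOfLE h)

/-- Sections on two opens agreeing on the overlap glue on the union. -/
theorem exists_glue_sup (F : EtCoh.Ab X) {A B : X.Opens}
    (a : F.obj.obj (op (ZO A))) (b : F.obj.obj (op (ZO B)))
    (hab : rmap F (inf_le_left : A ⊓ B ≤ A) a = rmap F (inf_le_right : A ⊓ B ≤ B) b) :
    ∃ t : F.obj.obj (op (ZO (A ⊔ B))),
      rmap F le_sup_left t = a ∧ rmap F le_sup_right t = b := by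
  let V : ULift.{u} Bool → X.Opens := fun i => if i.down then A else B
  have hV : ∀ i, V i ≤ A ⊔ B := by
    rintro ⟨i⟩; cases i
    · exact le_sup_right
    · exact le_sup_left
  let s : ∀ i, F.obj.obj (op (ZO (V i))) := fun i => match i with
    | ⟨true⟩ => a
    | ⟨false⟩ => b
  have hs : ∀ i j, rmap F (inf_le_left : V i ⊓ V j ≤ V i) (s i) = rmap F (inf_le_right : V i ⊓ V j ≤ V j) (s j) := by
    rintro ⟨i⟩ ⟨j⟩
    cases i <;> cases j
    · rfl
    · have := congrArg (rmap F (le_inf inf_le_right inf_le_left : B ⊓ A ≤ A ⊓ B)) hab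
      rw [rmap_rmap, rmap_rmap] at this
      exact this.symm
    · exact hab
    · rfl
  have hc : Presieve.Arrows.Compatible (F.obj ⋙ forget AddCommGrpCat.{u + 1})
      (fun i => zoMap (hV i)) s := by
    intro i j Z α β _
    obtain ⟨k⟩ := exists_hom_inf α β
    show (F.obj.map α.op).hom (s i) = (F.obj.map β.op).hom (s j)
    rw [← map_open F k α inf_le_left, ← map_open F k β inf_le_right, hs i j]
  obtain ⟨t, ht, -⟩ := (Presieve.isSheafFor_arrows_iff _ _).1 (isSheafFor_of_covers F (fun i => ZO (V i))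
    (fun i => zoMap (hV i)) fun x => by
      rcases (show x.1 ∈ A ∨ x.1 ∈ B from x.2) with h | h
      · exact ⟨⟨true⟩, ⟨x.1, h⟩, Subtype.ext (Scheme.homOfLE_apply (hV ⟨true⟩) ⟨x.1, h⟩)⟩
      · exact ⟨⟨false⟩, ⟨x.1, h⟩, Subtype.ext (Scheme.homOfLE_apply (hV ⟨false⟩) ⟨x.1, h⟩)⟩) s hc
  exact ⟨t, ht ⟨true⟩, ht ⟨false⟩⟩

/-- Sections on a union are determined on the two parts. -/
theorem ext_sup (F : EtCoh.Ab X) {A B : X.Opens} {s t : F.obj.obj (op (ZO (A ⊔ B)))}
    (hA : rmap F le_sup_left s = rmap F le_sup_left t)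
    (hB : rmap F le_sup_right s = rmap F le_sup_right t) : s = t := by
  let V : ULift.{u} Bool → X.Opens := fun i => if i.down then A else B
  have hV : ∀ i, V i ≤ A ⊔ B := by
    rintro ⟨i⟩; cases i
    · exact le_sup_right
    · exact le_sup_left
  refine (isSheafFor_of_covers F (fun i => ZO (V i)) (fun i => zoMap (hV i)) fun x => by
    rcases (show x.1 ∈ A ∨ x.1 ∈ B from x.2) with h | h
    · exact ⟨⟨true⟩, ⟨x.1, h⟩, Subtype.ext (Scheme.homOfLE_apply (hV ⟨true⟩) ⟨x.1, h⟩)⟩
    · exact ⟨⟨false⟩, ⟨x.1, h⟩, Subtype.ext (Scheme.homOfLE_apply (hV ⟨false⟩) ⟨x.1, h⟩)⟩).isSeparatedFor.ext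
      fun Y a ha => ?_
  obtain ⟨⟨i⟩⟩ := ha
  cases i
  · exact hB
  · exact hA

/-- Two lifts agreeing up to a coboundary give a lift on the union. -/
theorem exists_lift_sup {q : (rQ X).obj.obj (op (EtCoh.top X))} {A B : X.Opens}
    {a : (rI X).obj.obj (op (ZO A))} {b : (rI X).obj.obj (op (ZO B))} (ha : IsLift q A a) (hb : IsLift q B b)
    (hab : rmap (rI X) (inf_le_left : A ⊓ B ≤ A) a = rmap (rI X) (inf_le_right : A ⊓ B ≤ B) b) :
    ∃ t, IsLift q (A ⊔ B) t := by
  obtain ⟨t, htA, htB⟩ := exists_glue_sup (rI X) a b hab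
  refine ⟨t, ext_sup (rQ X) ?_ ?_⟩
  · rw [← rmap_nat, htA, ha]
    exact (congrArg (fun e => ((rQ X).obj.map (Quiver.Hom.op e)).hom q) ((topIsTerminal X).hom_ext _ _)).trans
      (map_map (rQ X) _ _ q).symm
  · rw [← rmap_nat, htB, hb]
    exact (congrArg (fun e => ((rQ X).obj.map (Quiver.Hom.op e)).hom q) ((topIsTerminal X).hom_ext _ _)).trans
      (map_map (rQ X) _ _ q).symm

/-- Units on an open as an additive map to sections. -/
noncomputable def umkHom (V : X.Opens) : Additive Γ(X, V)ˣ →+ (EtCoh.Gm X).obj.obj (op (ZO V)) :=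
  AddMonoidHom.mk' (fun a => umk (Additive.toMul a)) fun a b => umk_mul (Additive.toMul a) (Additive.toMul b)

/-- A class lifting everywhere is zero. -/
theorem cls_eq_zero_of_isLift_top {q : (rQ X).obj.obj (op (EtCoh.top X))} {V : X.Opens}
    {a : (rI X).obj.obj (op (ZO V))} (ha : IsLift q V a) (hV : V = ⊤) : cls q = 0 := by
  subst hV
  exact cls_eq_zero_of_glue (sup_idem _) ha ha rfl

variable (X) in
/-- The complement of a closed point. -/
def offPt (x : X) (hx : IsClosed ({x} : Set X)) : X.Opens := ⟨{x}ᶜ, hx.isOpen_compl⟩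

/-- `c` is the class of the point `x`: it is cut out by a uniformiser near `x`. -/
def IsPointClass (x : X) (hx : IsClosed ({x} : Set X)) (c : EtCoh.H X (EtCoh.Gm X) 1) : Prop :=
  ∃ (W : X.Opens) (hW : x ∈ W) (t : Γ(X, W)) (w : Γ(X, offPt X x hx ⊓ W)ˣ),
    (w : Γ(X, offPt X x hx ⊓ W)) = resR inf_le_right t ∧
      Ideal.span {X.presheaf.germ W x hW t} = IsLocalRing.maximalIdeal (X.presheaf.stalk x) ∧
      HasDiff (offPt X x hx) W w c

theorem offPt_sup {x : X} (hx : IsClosed ({x} : Set X)) {W : X.Opens} (hW : x ∈ W) : offPt X x hx ⊔ W = ⊤ := by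
  refine top_le_iff.1 fun y _ => ?_
  rcases eq_or_ne y x with h | h
  · exact Or.inr (h ▸ hW)
  · exact Or.inl h

variable [IsIntegral X]

theorem germ_resR {U V : X.Opens} (h : V ≤ U) {x : X} (hx : x ∈ V) (s : Γ(X, U)) :
    X.presheaf.germ V x hx (resR h s) = X.presheaf.germ U x (h hx) s :=
  X.presheaf.germ_res_apply (homOfLE h) x hx s

/-- A unit of the local ring spreads to a unit on a neighbourhood. -/
theorem exists_unit_nhd {x : X} (e : (X.presheaf.stalk x)ˣ) :
    ∃ (V : X.Opens) (hx : x ∈ V) (ε : Γ(X, V)ˣ), X.presheaf.germ V x hx (ε : Γ(X, V)) = (e : X.presheaf.stalk x) := by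
  obtain ⟨U, hxU, s, hs⟩ := X.presheaf.exists_germ_eq (e : X.presheaf.stalk x)
  have hb : x ∈ X.basicOpen s := by
    rw [Scheme.mem_basicOpen _ _ _ hxU, hs]
    exact e.isUnit
  have hu : IsUnit (resR (X.basicOpen_le s) s) := RingedSpace.isUnit_res_basicOpen _ s
  exact ⟨X.basicOpen s, hb, hu.unit, (germ_resR (X.basicOpen_le s) hb s).trans hs⟩

theorem exists_zpow {x : X} [IsDiscreteValuationRing (X.presheaf.stalk x)] {π : X.presheaf.stalk x}
    (hπ : Irreducible π) {c : X.functionField} (hc : c ≠ 0) :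
    ∃ (w : (X.presheaf.stalk x)ˣ) (z : ℤ),
      c = algebraMap _ X.functionField (w : X.presheaf.stalk x) * algebraMap _ X.functionField π ^ z := by
  obtain ⟨a, b, hb, rfl⟩ := IsFractionRing.div_surjective (X.presheaf.stalk x) c
  have hinj := IsFractionRing.injective (X.presheaf.stalk x) X.functionField
  have hb0 : b ≠ 0 := nonZeroDivisors.ne_zero hb
  have ha0 : a ≠ 0 := fun h => hc (by rw [h, map_zero, zero_div])
  obtain ⟨m, v, rfl⟩ := IsDiscreteValuationRing.eq_unit_mul_pow_irreducible ha0 hπ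
  obtain ⟨n, w, rfl⟩ := IsDiscreteValuationRing.eq_unit_mul_pow_irreducible hb0 hπ
  have hp : algebraMap _ X.functionField π ≠ 0 := (map_ne_zero_iff _ hinj).2 hπ.ne_zero
  have hw : algebraMap _ X.functionField (w : X.presheaf.stalk x) ≠ 0 := (map_ne_zero_iff _ hinj).2 w.ne_zero
  refine ⟨v * w⁻¹, (m : ℤ) - n, ?_⟩
  have hinv : algebraMap _ X.functionField ((w⁻¹ : (X.presheaf.stalk x)ˣ) : X.presheaf.stalk x) =
      (algebraMap _ X.functionField (w : X.presheaf.stalk x))⁻¹ := by
    refine eq_inv_of_mul_eq_one_left ?_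
    rw [← map_mul, Units.inv_mul, map_one]
  rw [map_mul, map_mul, map_pow, map_pow, Units.val_mul, map_mul, zpow_sub₀ hp, zpow_natCast, zpow_natCast, hinv]
  field_simp

/-- The class of a point is unique. -/
theorem IsPointClass.unique {x : X} {hx : IsClosed ({x} : Set X)} {c c' : EtCoh.H X (EtCoh.Gm X) 1}
    (h : IsPointClass x hx c) (h' : IsPointClass x hx c') : c = c' := by
  obtain ⟨W, hW, t, w, hw, ht, hc⟩ := h
  obtain ⟨W', hW', t', w', hw', ht', hc'⟩ := h'
  obtain ⟨e, he⟩ : ∃ e : (X.presheaf.stalk x)ˣ,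
      X.presheaf.germ W x hW t * e = X.presheaf.germ W' x hW' t' :=
    Ideal.span_singleton_eq_span_singleton.1 (ht.trans ht'.symm)
  obtain ⟨V, hxV, ε, hε⟩ := exists_unit_nhd e
  let N : X.Opens := (W ⊓ W') ⊓ V
  have hN : x ∈ N := ⟨⟨hW, hW'⟩, hxV⟩
  haveI : Nonempty N := ⟨⟨x, hN⟩⟩
  have hNW : N ≤ W := inf_le_left.trans inf_le_left
  have hNW' : N ≤ W' := inf_le_left.trans inf_le_right
  have hNV : N ≤ V := inf_le_right
  have heq : resR hNW' t' = resR hNW t * resR hNV (ε : Γ(X, V)) :=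
    germ_injective_of_isIntegral X x hN (by rw [map_mul, germ_resR, germ_resR, germ_resR, hε, he])
  let εN : Γ(X, N)ˣ := Units.map (resR hNV).toMonoidHom ε
  have h1 := hc.refine (le_refl (offPt X x hx)) hNW
  have h2 := hc'.refine (le_refl (offPt X x hx)) hNW'
  refine (h1.change 1 εN⁻¹ ?_).unique (offPt_sup hx hN) h2
  rw [map_one, map_inv, div_inv_eq_mul, one_mul]
  refine Units.ext ?_
  rw [Units.val_mul]
  show resR (inf_le_inf (le_refl _) hNW') (w' : Γ(X, offPt X x hx ⊓ W')) =
    resR (inf_le_inf (le_refl _) hNW) (w : Γ(X, offPt X x hx ⊓ W)) * resR inf_le_right (resR hNV (ε : Γ(X, V)))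
  rw [hw, hw', resR_resR, resR_resR,
    show resR (_ : offPt X x hx ⊓ N ≤ W') t' = resR inf_le_right (resR hNW' t') from (resR_resR _ _ _).symm,
    heq, map_mul, resR_resR, resR_resR]

/-- A unit at every point of a nonempty open difference: shrinking a neighbourhood around a point. -/
theorem exists_unit_off [QuasiSober X] [NoetherianSpace X] {x : X} (hx : IsClosed ({x} : Set X))
    (hdim : ∀ y : X, y ≠ genericPoint X → IsClosed ({y} : Set X))
    (π : X.presheaf.stalk x) (hπ : π ≠ 0) :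
    ∃ (W : X.Opens) (hW : x ∈ W) (t : Γ(X, W)), X.presheaf.germ W x hW t = π ∧
      IsUnit (resR (inf_le_right : offPt X x hx ⊓ W ≤ W) t) := by
  obtain ⟨U, hxU, t, ht⟩ := X.presheaf.exists_germ_eq π
  have ht0 : t ≠ 0 := fun h => hπ (by rw [← ht, h, map_zero])
  haveI : Nonempty U := ⟨⟨x, hxU⟩⟩
  have hgen : genericPoint X ∈ X.basicOpen t := by
    have : Nonempty (X.basicOpen t) := by
      rw [← not_isEmpty_iff]
      intro he
      refine ht0 ((basicOpen_eq_bot_iff t).1 (eq_bot_iff.2 fun y hy => he.elim ⟨y, hy⟩))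
    obtain ⟨⟨y, hy⟩⟩ := this
    exact ((genericPoint_spec X).mem_open_set_iff (X.basicOpen t).isOpen).2 (by simpa using ⟨y, hy⟩)
  let T : Set X := (X.basicOpen t : Set X)ᶜ \ {x}
  have hfin : T.Finite := by
    obtain ⟨S, hS, hcl, hirr, hTS⟩ :=
      NoetherianSpace.exists_finite_set_isClosed_irreducible (X.basicOpen t).isOpen.isClosed_compl
    refine Set.Finite.subset (s := (X.basicOpen t : Set X)ᶜ) ?_ Set.sdiff_subset
    rw [hTS]
    refine Set.Finite.sUnion hS fun Z hZ => ?_
    obtain ⟨η, hη⟩ := QuasiSober.sober (hirr Z hZ) (hcl Z hZ)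
    have hne : η ≠ genericPoint X := by
      rintro rfl
      have hmem : genericPoint X ∈ (X.basicOpen t : Set X)ᶜ := hTS ▸ ⟨Z, hZ, hη ▸ subset_closure rfl⟩
      exact hmem hgen
    have : Z = {η} := by rw [← hη, (hdim η hne).closure_eq]
    rw [this]
    exact Set.finite_singleton η
  have hTcl : IsClosed T := by
    have : T = ⋃ y ∈ T, {y} := by simp
    rw [this]
    exact hfin.isClosed_biUnion fun y hy => hdim y fun h => hy.1 (h ▸ hgen)
  let W : X.Opens := U ⊓ ⟨Tᶜ, hTcl.isOpen_compl⟩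
  have hxW : x ∈ W := ⟨hxU, fun h => h.2 rfl⟩
  refine ⟨W, hxW, resR inf_le_left t, by rw [germ_resR, ht], ?_⟩
  rw [resR_resR]
  refine Groth.Agent.AModX.isUnit_resR _ t ?_
  rintro y ⟨hy1, -, hy3⟩
  by_contra h
  exact hy3 ⟨h, hy1⟩

variable [NoetherianSpace X] [QuasiSober X]

theorem exists_isPointClass (hdim : ∀ y : X, y ≠ genericPoint X → IsClosed ({y} : Set X))
    {x : X} (hx : IsClosed ({x} : Set X)) [IsDiscreteValuationRing (X.presheaf.stalk x)] :
    ∃ c, IsPointClass x hx c := by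
  obtain ⟨π, hπ⟩ := IsDiscreteValuationRing.exists_irreducible (X.presheaf.stalk x)
  obtain ⟨W, hW, t, ht, hu⟩ := exists_unit_off hx hdim π hπ.ne_zero
  obtain ⟨c, hc⟩ := exists_hasDiff (offPt_sup hx hW) hu.unit
  exact ⟨c, W, hW, t, hu.unit, rfl, by rw [ht, hπ.maximalIdeal_eq], hc⟩

/-- The classes of points. -/
def pointClasses (X : Scheme.{u}) : Set (EtCoh.H X (EtCoh.Gm X) 1) :=
  {c | ∃ (x : X) (hx : IsClosed ({x} : Set X)), IsPointClass x hx c}

/-- The classes of points generate. -/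
theorem mem_closure_pointClasses (hdim : ∀ y : X, y ≠ genericPoint X → IsClosed ({y} : Set X))
    (hdvr : ∀ y : X, IsClosed ({y} : Set X) → IsDiscreteValuationRing (X.presheaf.stalk y))
    (c : EtCoh.H X (EtCoh.Gm X) 1) : c ∈ AddSubgroup.closure (pointClasses X) := by
  classical
  suffices key : ∀ (S : Finset X) (q : (rQ X).obj.obj (op (EtCoh.top X))) (V : X.Opens)
      (a : (rI X).obj.obj (op (ZO V))), IsLift q V a → genericPoint X ∈ V → (V : Set X)ᶜ ⊆ S →
      cls q ∈ AddSubgroup.closure (pointClasses X) by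
    obtain ⟨q, rfl⟩ := cls_surjective c
    obtain ⟨V, hgV, a, ha⟩ := exists_local_lift (rf X) (rg X) (res X).shortComplex.zero (res_shortExact X) q
      (genericPoint X)
    have hfin : (V : Set X)ᶜ.Finite := by
      obtain ⟨S, hS, hcl, hirr, hTS⟩ :=
        NoetherianSpace.exists_finite_set_isClosed_irreducible V.isOpen.isClosed_compl
      rw [hTS]
      refine Set.Finite.sUnion hS fun Z hZ => ?_
      obtain ⟨η, hη⟩ := QuasiSober.sober (hirr Z hZ) (hcl Z hZ)
      have hmem : η ∈ (V : Set X)ᶜ := hTS ▸ ⟨Z, hZ, hη ▸ subset_closure rfl⟩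
      have : Z = {η} := by
        rw [← hη, (hdim η fun h => hmem (h ▸ hgV)).closure_eq]
      rw [this]
      exact Set.finite_singleton η
    exact key hfin.toFinset q V a ha hgV (by simp)
  intro S
  induction S using Finset.induction with
  | empty =>
    intro q V a ha _ hV
    rw [Finset.coe_empty, Set.subset_empty_iff, Set.compl_empty_iff] at hV
    rw [cls_eq_zero_of_isLift_top ha (Opens.ext hV)]
    exact zero_mem _
  | insert s S hs ih =>
    intro q V a ha hgV hV
    rw [Finset.coe_insert] at hV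
    by_cases hsV : s ∈ V
    · exact ih q V a ha hgV fun y hy => (hV hy).resolve_left fun h => hy (h ▸ hsV)
    have hcl : IsClosed ({s} : Set X) := hdim s fun h => hsV (h ▸ hgV)
    haveI := hdvr s hcl
    obtain ⟨W₀, hsW₀, b, hb⟩ := exists_local_lift (rf X) (rg X) (res X).shortComplex.zero (res_shortExact X) q s
    obtain ⟨π, hπ⟩ := IsDiscreteValuationRing.exists_irreducible (X.presheaf.stalk s)
    obtain ⟨Wt, hsWt, t, ht, htu⟩ := exists_unit_off hcl hdim π hπ.ne_zero
    obtain ⟨cs, hcs⟩ := exists_hasDiff (offPt_sup hcl hsWt) htu.unit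
    have hpt : cs ∈ pointClasses X := ⟨s, hcl, Wt, hsWt, t, htu.unit, rfl, by rw [ht, hπ.maximalIdeal_eq], hcs⟩
    obtain ⟨qs, as, bs, rfl, has, hbs, hds⟩ := hcs
    -- the difference of the two lifts
    have hVW : ∃ d : Γ(X, V ⊓ W₀)ˣ, ((rf X).hom.app (op (ZO (V ⊓ W₀)))).hom (umk d) =
        rmap (rI X) inf_le_left a - rmap (rI X) inf_le_right b := by
      obtain ⟨d, hd⟩ := exists_preimage (rf X) (rg X) (res X).shortComplex.zero (res_shortExact X)
        (rmap (rI X) inf_le_left a - rmap (rI X) inf_le_right b) (by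
          rw [map_sub, rmap_nat, rmap_nat]
          exact sub_eq_zero.2 ((rmap_nat (rg X) inf_le_left a).symm.trans ((IsLift.rmap ha _).trans
            ((IsLift.rmap hb _).symm.trans (rmap_nat (rg X) inf_le_right b)))))
      exact ⟨uval d, by rw [umk_uval, hd]⟩
    obtain ⟨d, hd⟩ := hVW
    haveI : Nonempty (V ⊓ W₀).toScheme := ⟨⟨genericPoint X, hgV,
      ((genericPoint_spec X).mem_open_set_iff W₀.isOpen).2 (by simpa using ⟨s, hsW₀⟩)⟩⟩
    have hd0 : X.germToFunctionField (V ⊓ W₀) (d : Γ(X, V ⊓ W₀)) ≠ 0 := (d.isUnit.map _).ne_zero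
    obtain ⟨e, z, hez⟩ := exists_zpow hπ hd0
    obtain ⟨Ve, hsVe, ε, hε⟩ := exists_unit_nhd e
    let W : X.Opens := (W₀ ⊓ Wt) ⊓ Ve
    have hWW₀ : W ≤ W₀ := inf_le_left.trans inf_le_left
    have hWWt : W ≤ Wt := inf_le_left.trans inf_le_right
    have hWVe : W ≤ Ve := inf_le_right
    have hsW : s ∈ W := ⟨⟨hsW₀, hsWt⟩, hsVe⟩
    have hVs : V ≤ offPt X s hcl := fun y hy h => hsV (h ▸ hy)
    haveI : Nonempty (V ⊓ W).toScheme := ⟨⟨genericPoint X, hgV,
      ((genericPoint_spec X).mem_open_set_iff W.isOpen).2 (by simpa using ⟨s, hsW⟩)⟩⟩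
    haveI : Nonempty Ve := ⟨⟨s, hsVe⟩⟩
    haveI : Nonempty Wt := ⟨⟨s, hsWt⟩⟩
    -- on the smaller overlap the difference is `ε t^z`
    let dW : Γ(X, V ⊓ W)ˣ := Units.map (resR (inf_le_inf (le_refl V) hWW₀)).toMonoidHom d
    let tW : Γ(X, V ⊓ W)ˣ := Units.map (resR (inf_le_inf hVs hWWt)).toMonoidHom htu.unit
    let εW : Γ(X, V ⊓ W)ˣ := Units.map (resR (inf_le_right.trans hWVe)).toMonoidHom ε
    have hfac : dW = εW * tW ^ z := by
      let θ : Γ(X, V ⊓ W)ˣ →* X.functionFieldˣ := Units.map (X.germToFunctionField (V ⊓ W)).hom.toMonoidHom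
      have hθ : Function.Injective θ := Units.map_injective (X.germToFunctionField_injective _)
      refine hθ (Units.ext ?_)
      rw [map_mul, map_zpow, Units.val_mul, Units.val_zpow_eq_zpow_val]
      show X.germToFunctionField (V ⊓ W) (resR _ (d : Γ(X, V ⊓ W₀))) =
        X.germToFunctionField (V ⊓ W) (resR _ (ε : Γ(X, Ve))) *
          (X.germToFunctionField (V ⊓ W) (resR _ (resR inf_le_right t))) ^ z
      simp only [Scheme.germToFunctionField, resR_resR, germ_resR]
      refine hez.trans ?_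
      rw [← hε, ← ht, Scheme.algebraMap_germ_eq_germToFunctionField, Scheme.algebraMap_germ_eq_germToFunctionField]
    -- subtract `z` times the class of `s`
    let q' := q - z • qs
    have hmem : cls q' ∈ AddSubgroup.closure (pointClasses X) := by
      have hsmul : ∀ {O : X.Opens} {o : (rI X).obj.obj (op (ZO O))}, IsLift qs O o →
          IsLift (z • qs) O (z • o) := fun {O o} h => by
        show _ = _
        rw [map_zsmul, map_zsmul, h]
      have hA : IsLift q' V (a - z • rmap (rI X) hVs as) := ha.sub (hsmul (has.rmap hVs))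
      have hB : IsLift q' W (rmap (rI X) hWW₀ b - z • rmap (rI X) hWWt bs) :=
        (IsLift.rmap hb hWW₀).sub (hsmul (hbs.rmap hWWt))
      have hB' := hB.add_unit (umk (Units.map (resR hWVe).toMonoidHom ε))
      obtain ⟨o, ho⟩ := exists_lift_sup hA hB' (by
        rw [← sub_eq_zero, map_sub, map_add, map_sub, map_zsmul, map_zsmul, rmap_rmap, rmap_rmap, rmap_rmap,
          ← rmap_nat, rmap_umk inf_le_right (Units.map (resR hWVe).toMonoidHom ε) εW (resR_resR _ _ _)]
        have h1 : rmap (rI X) (inf_le_left : V ⊓ W ≤ V) a - rmap (rI X) (inf_le_right.trans hWW₀) b =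
            ((rf X).hom.app (op (ZO (V ⊓ W)))).hom (umk dW) := by
          rw [← rmap_umk (inf_le_inf (le_refl V) hWW₀) d dW rfl, rmap_nat, hd, map_sub, rmap_rmap, rmap_rmap]
        have h2 : rmap (rI X) (inf_le_left.trans hVs) as - rmap (rI X) (inf_le_right.trans hWWt) bs =
            ((rf X).hom.app (op (ZO (V ⊓ W)))).hom (umk tW) := by
          rw [← rmap_umk (inf_le_inf hVs hWWt) htu.unit tW rfl, rmap_nat, ← hds, map_sub, rmap_rmap, rmap_rmap]
        have h3 : (umk dW : (EtCoh.Gm X).obj.obj (op (ZO (V ⊓ W)))) = umk εW + z • umk tW := by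
          rw [hfac, umk_mul]
          exact congrArg _ (map_zsmul (umkHom (V ⊓ W)) z (Additive.ofMul tW))
        have h4 := h1
        rw [h3, map_add, map_zsmul, ← h2, zsmul_sub] at h4
        rw [sub_eq_iff_eq_add] at h4
        rw [h4]
        abel)
      refine ih q' _ o ho (Or.inl hgV) fun y hy => ?_
      have hyV : y ∉ V := fun h => hy (Or.inl h)
      exact (hV hyV).resolve_left fun h => hy (Or.inr (h ▸ hsW))
    have : cls q = cls q' + z • cls qs := by
      rw [← clsHom_apply, ← clsHom_apply, ← clsHom_apply, ← map_zsmul, ← map_add, sub_add_cancel]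
    rw [this]
    exact add_mem hmem (AddSubgroup.zsmul_mem _ (AddSubgroup.subset_closure hpt) z)

end Groth.Agent.CurveH2
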