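import Groth.Agent.CurveH2.OpenMu
import Groth.Agent.DimOneAmple.Normal
import Groth.Agent.CurveCohLib.RegularCurve
import Groth.Agent.DescLib.Reduced

/-!
# Smooth proper models of smooth affine curves
-/

set_option autoImplicit false
set_option backward.isDefEq.respectTransparency false
set_option backward.isDefEq.respectTransparency.types false
set_option linter.style.haveILetI false

universe u

open CategoryTheory CategoryTheory.Limits AlgebraicGeometry Opposite TopologicalSpace

namespace Groth.Agent.CurveH2

variable {k : Type u} [Field k] [IsAlgClosed k]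

/-- A smooth affine curve is an open subscheme of a smooth proper curve. -/
theorem exists_model {U : Scheme.{u}} (g : U ⟶ Spec (CommRingCat.of k)) [IsAffine U] [IsIntegral U] [Smooth g]
    (hdim : topologicalKrullDim U = 1) :
    ∃ (C : Scheme.{u}) (f : C ⟶ Spec (CommRingCat.of k)) (j : U ⟶ C), IsProper f ∧ Smooth f ∧ IsIntegral C ∧
      IsOpenImmersion j ∧ topologicalKrullDim C = 1 := by
  obtain ⟨d, Y, c, j, hc, hj, hjf, hdense, hdom, hfin, hbd⟩ := DimOneAmple.exists_normal_completion g hdim.le
  haveI := hc
  haveI := hj
  haveI : IsProper (CohB1.ProjSpace.toSpec d k) := PnCoh.Chow.isProper_toSpec d _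
  let f : Y ⟶ Spec (CommRingCat.of k) := c ≫ CohB1.ProjSpace.toSpec d k
  haveI : IsProper f := inferInstanceAs (IsProper (c ≫ CohB1.ProjSpace.toSpec d k))
  letI : Y.Over (Spec (CommRingCat.of k)) := ⟨f⟩
  haveI : LocallyOfFiniteType (Y ↘ Spec (CommRingCat.of k)) := inferInstanceAs (LocallyOfFiniteType f)
  haveI : IsLocallyNoetherian Y := LocallyOfFiniteType.isLocallyNoetherian f
  haveI hsm : Smooth (Y ↘ Spec (CommRingCat.of k)) := by
    refine CurveCohLib.RegularCurve.smooth_of_regular k fun y hy => ?_
    by_cases h : y ∈ Set.range j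
    · obtain ⟨x, rfl⟩ := h
      have hx : IsClosed ({x} : Set U) := by
        have := hy.preimage j.continuous
        rwa [← Set.image_singleton, j.isOpenEmbedding.injective.preimage_image] at this
      haveI : IsSeparated g := inferInstance
      haveI := isDVR_stalk g hdim x hx
      haveI : IsRegularLocalRing (U.presheaf.stalk x) := inferInstance
      exact IsRegularLocalRing.of_ringEquiv (asIso (j.stalkMap x)).commRingCatIsoToRingEquiv.symm
    · obtain ⟨-, hD, hV⟩ := hbd y h
      haveI := hV
      infer_instance
  haveI : IsReduced Y := DescLib.isReduced_of_smooth_of_isReduced (Y ↘ Spec (CommRingCat.of k))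
  haveI : IrreducibleSpace Y := by
    have h1 := (IrreducibleSpace.isIrreducible_univ U).image j j.continuous.continuousOn
    rw [Set.image_univ] at h1
    have h2 := h1.closure
    rw [hdense.closure_eq] at h2
    exact (irreducibleSpace_def _).2 h2
  haveI : IsIntegral Y := isIntegral_of_irreducibleSpace_of_isReduced Y
  refine ⟨Y, f, j, inferInstance, hsm, inferInstance, hj, le_antisymm ?_ ?_⟩
  · haveI : JacobsonSpace Y := LocallyOfFiniteType.jacobsonSpace f
    have hcl : ∀ y : Y, y ≠ genericPoint Y → IsClosed ({y} : Set Y) := by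
      intro y hy
      by_cases h : y ∈ Set.range j
      · obtain ⟨x, rfl⟩ := h
        have hxU : IsClosed ({x} : Set U) := isClosed_of_ne_generic hdim.le fun h' => hy (by
          rw [h', genericPoint_eq_of_isOpenImmersion j])
        have hmem : x ∈ j ⁻¹' closedPoints Y := by
          rw [j.isOpenEmbedding.preimage_closedPoints]
          exact hxU
        exact hmem
      · exact (hbd y h).1
    refine Order.krullDim_le_one_iff.2 fun Z => ?_
    by_cases hZ : (Z : Set Y) = Set.univ
    · exact Or.inr fun W _ => by rw [← SetLike.coe_subset_coe, hZ]; exact Set.subset_univ _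
    · refine Or.inl fun W hW => ?_
      obtain ⟨z, hz⟩ := QuasiSober.sober Z.isIrreducible Z.isClosed
      obtain ⟨w, hw⟩ := QuasiSober.sober W.isIrreducible W.isClosed
      have hzg : z ≠ genericPoint Y := fun h => hZ (by rw [← hz.def]; exact (h ▸ genericPoint_spec Y))
      have hzs : (Z : Set Y) = {z} := by rw [← hz.def]; exact (hcl z hzg).closure_eq
      rw [← SetLike.coe_subset_coe, hzs, Set.singleton_subset_iff]
      have hwz : w ∈ (Z : Set Y) := hW (show w ∈ (W : Set Y) from hw.def ▸ subset_closure rfl)
      rw [hzs, Set.mem_singleton_iff] at hwz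
      exact hwz ▸ (hw.def ▸ subset_closure rfl)
  · exact hdim.ge.trans j.isOpenEmbedding.isInducing.topologicalKrullDim_le

end Groth.Agent.CurveH2
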