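import Groth.Agent.CurveH2.OpenMu
import Groth.Agent.CurveH2.Model
import Groth.Agent.EtLC12.MuConst
import Groth.Agent.EtLC12.ArtinSchreier
import Groth.Agent.RatCoh13.Main
import Groth.Agent.CdFin.Devissage
import Groth.Agent.S0109
import Mathlib.Algebra.Homology.ShortComplex.Ab

/-!
# Vanishing of `H²` with constant cyclic coefficients on smooth affine curves
-/

set_option autoImplicit false
set_option backward.isDefEq.respectTransparency false
set_option backward.isDefEq.respectTransparency.types false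
set_option linter.style.haveILetI false

universe u

open CategoryTheory CategoryTheory.Limits AlgebraicGeometry Opposite CategoryTheory.Abelian

namespace Groth.Agent.CurveH2

/-- The inclusion of `ℤ/m` in `ℤ/ℓm`. -/
noncomputable def zmodIncl (ℓ m : ℕ) : ZMod m →+ ZMod (ℓ * m) :=
  ZMod.lift m ⟨zmultiplesHom _ (ℓ : ZMod (ℓ * m)), by
    rw [zmultiplesHom_apply, natCast_zsmul, nsmul_eq_mul, ← Nat.cast_mul, mul_comm, ZMod.natCast_self]⟩

theorem zmodIncl_intCast (ℓ m : ℕ) (a : ℤ) : zmodIncl ℓ m (a : ZMod m) = ((ℓ * a : ℤ) : ZMod (ℓ * m)) := by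
  rw [zmodIncl, ZMod.lift_coe, zmultiplesHom_apply, zsmul_eq_mul]
  push_cast
  exact mul_comm _ _

/-- The sequence `0 → ℤ/m → ℤ/ℓm → ℤ/ℓ → 0`. -/
noncomputable def zmodSeq (ℓ m : ℕ) : ShortComplex AddCommGrpCat.{u + 1} :=
  ShortComplex.mk
    (AddCommGrpCat.ofHom ((AddEquiv.ulift.symm.toAddMonoidHom.comp (zmodIncl ℓ m)).comp
      (AddEquiv.ulift : ULift.{u + 1} (ZMod m) ≃+ ZMod m).toAddMonoidHom) :
      AddCommGrpCat.of (ULift.{u + 1} (ZMod m)) ⟶ AddCommGrpCat.of (ULift.{u + 1} (ZMod (ℓ * m))))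
    (AddCommGrpCat.ofHom ((AddEquiv.ulift.symm.toAddMonoidHom.comp
        (ZMod.castHom (dvd_mul_right ℓ m) (ZMod ℓ)).toAddMonoidHom).comp
      (AddEquiv.ulift : ULift.{u + 1} (ZMod (ℓ * m)) ≃+ ZMod (ℓ * m)).toAddMonoidHom) :
      AddCommGrpCat.of (ULift.{u + 1} (ZMod (ℓ * m))) ⟶ AddCommGrpCat.of (ULift.{u + 1} (ZMod ℓ)))
    (AddCommGrpCat.ext fun x => by
      obtain ⟨a, ha⟩ := ZMod.intCast_surjective x.down
      apply ULift.ext
      change ZMod.castHom (dvd_mul_right ℓ m) (ZMod ℓ) (zmodIncl ℓ m x.down) = 0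
      rw [← ha, zmodIncl_intCast, map_intCast]
      simp)

theorem zmodSeq_shortExact (ℓ m : ℕ) (hℓ : 0 < ℓ) : (zmodSeq.{u} ℓ m).ShortExact where
  exact := by
    rw [ShortComplex.ab_exact_iff]
    intro x hx
    obtain ⟨a, ha⟩ := ZMod.intCast_surjective x.down
    have h : ZMod.castHom (dvd_mul_right ℓ m) (ZMod ℓ) x.down = 0 := congrArg ULift.down hx
    rw [← ha, map_intCast, ZMod.intCast_zmod_eq_zero_iff_dvd] at h
    obtain ⟨b, rfl⟩ := h
    refine ⟨⟨(b : ZMod m)⟩, ULift.ext _ _ ?_⟩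
    change zmodIncl ℓ m (b : ZMod m) = x.down
    rw [zmodIncl_intCast, ha]
  mono_f := (AddCommGrpCat.mono_iff_injective _).2 fun x y h => by
    obtain ⟨a, ha⟩ := ZMod.intCast_surjective x.down
    obtain ⟨b, hb⟩ := ZMod.intCast_surjective y.down
    have h' : zmodIncl ℓ m x.down = zmodIncl ℓ m y.down := congrArg ULift.down h
    rw [← ha, ← hb, zmodIncl_intCast, zmodIncl_intCast, ZMod.intCast_eq_intCast_iff_dvd_sub,
      Nat.cast_mul, ← mul_sub] at h'
    apply ULift.ext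
    rw [← ha, ← hb, ZMod.intCast_eq_intCast_iff_dvd_sub]
    exact Int.dvd_of_mul_dvd_mul_left (Nat.cast_ne_zero.2 hℓ.ne') h'
  epi_g := (AddCommGrpCat.epi_iff_surjective _).2 fun y => by
    obtain ⟨a, ha⟩ := ZMod.intCast_surjective y.down
    refine ⟨⟨(a : ZMod (ℓ * m))⟩, ULift.ext _ _ ?_⟩
    change ZMod.castHom (dvd_mul_right ℓ m) (ZMod ℓ) (a : ZMod (ℓ * m)) = y.down
    rw [map_intCast, ha]

/-- Constant cyclic coefficients reduce to prime order. -/
theorem subsingleton_H_const_of_prime (X : Scheme.{u}) (q : ℕ)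
    (h : ∀ ℓ : ℕ, ℓ.Prime → Subsingleton (EtCoh.H X (EtCoh.const X (ZMod ℓ)) q)) :
    ∀ n : ℕ, 0 < n → Subsingleton (EtCoh.H X (EtCoh.const X (ZMod n)) q) := by
  haveI : PreservesFiniteLimits (constantSheaf X.smallEtaleTopology AddCommGrpCat.{u + 1}) :=
    comp_preservesFiniteLimits _ _
  haveI : (constantSheaf X.smallEtaleTopology AddCommGrpCat.{u + 1}).Additive :=
    Functor.additive_of_preserves_binary_products _
  haveI : PreservesFiniteColimits (constantSheaf X.smallEtaleTopology AddCommGrpCat.{u + 1}) :=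
    haveI := (constantSheafAdj X.smallEtaleTopology AddCommGrpCat.{u + 1}
      (EtCore.topIsTerminal X)).leftAdjoint_preservesColimits
    PreservesColimitsOfSize.preservesFiniteColimits.{0, 0} _
  intro n
  induction n using Nat.strong_induction_on with
  | _ n ih =>
    intro hn
    by_cases h1 : n = 1
    · subst h1
      refine CdFin.subsingleton_H_of_isZero ?_ q
      exact Functor.map_isZero _ (AddCommGrpCat.isZero_of_subsingleton
        (AddCommGrpCat.of (ULift.{u + 1} (ZMod 1))))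
    · obtain ⟨ℓ, hℓ, m, rfl⟩ := Nat.exists_prime_and_dvd h1
      have hm : 0 < m := Nat.pos_of_mul_pos_left hn
      have hS := (zmodSeq_shortExact.{u} ℓ m hℓ.pos).map_of_exact
        (constantSheaf X.smallEtaleTopology AddCommGrpCat.{u + 1})
      have hA : Subsingleton (EtCoh.H X (EtCoh.const X (ZMod m)) q) :=
        ih m (lt_mul_of_one_lt_left hm hℓ.one_lt) hm
      refine subsingleton_of_forall_eq 0 fun x => ?_
      obtain ⟨y, hy⟩ := Ext.covariant_sequence_exact₂ _ hS x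
        (@Subsingleton.elim (EtCoh.H X (EtCoh.const X (ZMod ℓ)) q) (h ℓ hℓ) _ _)
      rw [← hy, @Subsingleton.elim (EtCoh.H X (EtCoh.const X (ZMod m)) q) hA y 0, Ext.zero_comp]

variable {k : Type u} [Field k] [IsAlgClosed k]

/-- `H²(U, ℤ/n) = 0` on a smooth affine curve over an algebraically closed field. -/
theorem subsingleton_H2_const_smooth {U : Scheme.{u}} (g : U ⟶ Spec (CommRingCat.of k)) [IsAffine U]
    [IsIntegral U] [Smooth g] (hdim : topologicalKrullDim U = 1) :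
    ∀ n : ℕ, 0 < n → Subsingleton (EtCoh.H U (EtCoh.const U (ZMod n)) 2) := by
  refine subsingleton_H_const_of_prime U 2 fun ℓ hℓ => ?_
  haveI : Fact ℓ.Prime := ⟨hℓ⟩
  haveI : NeZero ℓ := ⟨hℓ.ne_zero⟩
  by_cases hk : (ℓ : k) = 0
  · have h0 : (ℓ : Γ(U, ⊤)) = 0 := by
      rw [← map_natCast ((Scheme.ΓSpecIso (CommRingCat.of k)).inv ≫ g.appTop).hom, hk, map_zero]
    haveI := EtLC12.ArtinSchreier.isIso_constToKer (X := U) ℓ h0
    refine RatCoh13.subsingleton_H_of_iso (asIso (EtLC12.ArtinSchreier.constToKer ℓ h0)).symm 2 ?_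
    have hT := EtLC12.ArtinSchreier.shortExact_kernel (X := U) ℓ h0
    haveI := S0109.result U 2 (by omega)
    haveI := S0109.result U 1 le_rfl
    refine subsingleton_of_forall_eq 0 fun x => ?_
    obtain ⟨w, hw⟩ := Ext.covariant_sequence_exact₁ _ hT x
      (Subsingleton.elim (α := EtCoh.H U (EtCoh.Ga U) 2) _ _) (rfl : 1 + 1 = 2)
    rw [← hw, show w = 0 from Subsingleton.elim (α := EtCoh.H U (EtCoh.Ga U) 1) _ _, Ext.zero_comp]
  · obtain ⟨C, f, j, hf, hfs, hC, hj, hC1⟩ := exists_model g hdim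
    haveI := hf; haveI := hfs; haveI := hC; haveI := hj
    obtain ⟨ζ, hζ⟩ := exists_root g ℓ hk
    obtain ⟨e⟩ := EtLC12.MuConst.nonempty_mu_iso_const (isUnit_n ℓ hk g) ζ hζ
    exact RatCoh13.subsingleton_H_of_iso e 2 (subsingleton_H2_mu_open f hC1 j ℓ hk)

end Groth.Agent.CurveH2
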