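import Groth.Agent.CurveH2.Res
import Groth.Agent.EtLimit.Global
import Groth.Agent.EtLimit.PullThen
import Groth.Agent.EtFound.Excision

/-!
# Pulling back classes given by a unit on an overlap
-/

set_option autoImplicit false
set_option backward.isDefEq.respectTransparency false
set_option backward.isDefEq.respectTransparency.types false

universe u

open CategoryTheory CategoryTheory.Limits AlgebraicGeometry Opposite TopologicalSpace CategoryTheory.Abelian

namespace Groth.Agent.CurveH2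

open Groth.Agent.EtFound Groth.Agent.GmH1Lib Groth.Agent.AModX Groth.Agent.EtMVLib

variable {X Y : Scheme.{u}} (f : Y ⟶ X)

/-- Inverse image of `G_m` to `G_m`. -/
noncomputable def gmPull : (EtCoh.pull f).obj (EtCoh.Gm X) ⟶ EtCoh.Gm Y :=
  EtLimit.globPull EtCoh.ΓUnits EtCoh.isSheaf_ΓUnits f

/-- Inverse image of classes of `G_m`. -/
noncomputable def pullC [PreservesFiniteLimits (EtCoh.pull f)] (n : ℕ) :
    EtCoh.H X (EtCoh.Gm X) n →+ EtCoh.H Y (EtCoh.Gm Y) n :=
  EtLim.HpullThen f (EtCoh.Gm X) (gmPull f) n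

/-- The comparison of the open preimage with the base change of an open. -/
noncomputable def openBc (O : X.Opens) : ZO (f ⁻¹ᵁ O) ⟶ (EtCoh.bc f).obj (ZO O) :=
  MorphismProperty.Over.homMk
    (pullback.lift (f ∣_ O) (f ⁻¹ᵁ O).ι (morphismRestrict_ι f O) : (f ⁻¹ᵁ O).toScheme ⟶ _)
    (pullback.lift_snd _ _ _) trivial

theorem openBc_fst (O : X.Opens) : (openBc f O).left ≫ pullback.fst (ZO O).hom f = f ∣_ O :=
  pullback.lift_fst _ _ _

theorem hom_bc_ext {A : Y.Etale} {O : X.Opens} (a b : A ⟶ (EtCoh.bc f).obj (ZO O)) : a = b := by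
  apply MorphismProperty.Over.Hom.ext
  refine pullback.hom_ext ((cancel_mono O.ι).1 ?_) ((MorphismProperty.Over.w a).trans (MorphismProperty.Over.w b).symm)
  rw [Category.assoc, Category.assoc]
  show a.left ≫ pullback.fst (ZO O).hom f ≫ (ZO O).hom = b.left ≫ pullback.fst (ZO O).hom f ≫ (ZO O).hom
  rw [pullback.condition, ← Category.assoc, ← Category.assoc]
  exact congrArg (· ≫ f) ((MorphismProperty.Over.w a).trans (MorphismProperty.Over.w b).symm)

theorem hom_bcTop_ext {A : Y.Etale} (a b : A ⟶ (EtCoh.bc f).obj (EtCoh.top X)) : a = b :=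
  (EtCore.bcTopIsTerminal f).hom_ext _ _

/-- Sections of a direct image on an open as sections on the preimage. -/
noncomputable def secPre (M : EtCoh.Ab Y) (O : X.Opens) :
    ((EtCoh.push f).obj M).obj.obj (op (ZO O)) →+ M.obj.obj (op (ZO (f ⁻¹ᵁ O))) :=
  (M.obj.map (openBc f O).op).hom

theorem secPre_nat {M M' : EtCoh.Ab Y} (φ : M ⟶ M') (O : X.Opens)
    (s : ((EtCoh.push f).obj M).obj.obj (op (ZO O))) :
    (φ.hom.app (op (ZO (f ⁻¹ᵁ O)))).hom (secPre f M O s) =
      secPre f M' O ((((EtCoh.push f).map φ).hom.app (op (ZO O))).hom s) :=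
  NatTrans.naturality_apply φ.hom (openBc f O).op s

theorem secPre_rmap (M : EtCoh.Ab Y) {O O' : X.Opens} (h : O' ≤ O)
    (s : ((EtCoh.push f).obj M).obj.obj (op (ZO O))) :
    secPre f M O' (rmap ((EtCoh.push f).obj M) h s) = rmap M (f.preimage_mono h) (secPre f M O s) := by
  refine (map_map M _ _ s).trans (Eq.trans ?_ (map_map M _ _ s).symm)
  exact congrArg (fun e => (M.obj.map (Quiver.Hom.op e)).hom s) (hom_bc_ext f _ _)

/-- Inverse image of units on an open. -/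
noncomputable abbrev pullU {O : X.Opens} (w : Γ(X, O)ˣ) : Γ(Y, f ⁻¹ᵁ O)ˣ :=
  Units.map (f.app O).hom.toMonoidHom w

theorem secPre_GmPush (O : X.Opens) (w : Γ(X, O)ˣ) :
    secPre f (EtCoh.Gm Y) O (((EtLim.GmPush f).hom.app (op (ZO O))).hom (umk w)) =
      (umk (pullU f w) : (EtCoh.Gm Y).obj.obj (op (ZO (f ⁻¹ᵁ O)))) := by
  apply gv_ext
  show (openBc f O).left.appTop.hom ((pullback.fst (ZO O).hom f).appTop.hom (O.topIso.inv.hom (w : Γ(X, O)))) =
    (f ⁻¹ᵁ O).topIso.inv.hom ((f.app O).hom (w : Γ(X, O)))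
  have e : (pullback.fst (ZO O).hom f).appTop ≫ (openBc f O).left.appTop = (f ∣_ O).appTop :=
    (Scheme.Hom.comp_appTop _ _).symm.trans (congrArg Scheme.Hom.appTop (openBc_fst f O))
  refine (ConcreteCategory.congr_hom e (O.topIso.inv.hom (w : Γ(X, O)))).trans ?_
  have e' : O.topIso.inv ≫ (f ∣_ O).appTop = f.app O ≫ (f ⁻¹ᵁ O).topIso.inv := by
    rw [morphismRestrict_appTop, Scheme.Opens.topIso_inv, Scheme.Opens.topIso_inv,
      Scheme.Hom.naturality_assoc, ← Functor.map_comp]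
    exact congrArg (_ ≫ ·) (congrArg Y.presheaf.map (Subsingleton.elim _ _))
  exact ConcreteCategory.congr_hom e' (w : Γ(X, O))

variable [PreservesFiniteLimits (EtCoh.pull f)]

theorem injective_push (J : EtCoh.Ab Y) [Injective J] : Injective ((EtCoh.push f).obj J) :=
  haveI : (EtCoh.pull f).PreservesMonomorphisms := inferInstance
  Injective.injective_of_adjoint (EtCoh.pullPushAdj f) J

theorem constVal_mapped {G : EtCoh.Ab X} {M : EtCoh.Ab Y} (ψ : EtCoh.const X ℤ ⟶ G)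
    (a : G ⟶ (EtCoh.push f).obj M) :
    constVal ((EtCore.pullConst f ℤ).inv ≫ (EtCoh.pull f).map ψ ≫ ((EtCoh.pullPushAdj f).homEquiv _ _).symm a) =
      (EtCore.pushGsecIso f).hom.app M ((EtCore.gsec X).map a (constVal ψ)) := by
  rw [← Category.assoc, constVal_comp, constVal_pullConst, pullSec_app]
  refine (ConcreteCategory.congr_hom ((EtCore.pushGsecIso f).hom.naturality
    (((EtCoh.pullPushAdj f).homEquiv _ _).symm a)) _).symm.trans ?_
  refine congrArg ((EtCore.pushGsecIso f).hom.app M) ?_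
  have e : (EtCoh.pullPushAdj f).unit.app G ≫ (EtCoh.push f).map (((EtCoh.pullPushAdj f).homEquiv _ _).symm a) = a := by
    exact ((EtCoh.pullPushAdj f).homEquiv_unit _ _ _).symm.trans (Equiv.apply_symm_apply _ _)
  refine Eq.trans ?_ (congrArg (fun φ => (EtCore.gsec X).map φ (constVal ψ)) e)
  rw [Functor.map_comp]
  rfl

/-- The pullback of a class with a given difference has the pulled back difference. -/
theorem HasDiff.pull {A B : X.Opens} {w : Γ(X, A ⊓ B)ˣ} {c : EtCoh.H X (EtCoh.Gm X) 1}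
    (hc : HasDiff A B w c) : HasDiff (f ⁻¹ᵁ A) (f ⁻¹ᵁ B) (pullU f w) (pullC f 1 c) := by
  obtain ⟨q, a, b, rfl, ha, hb, hd⟩ := hc
  haveI := injective_push f (rI Y)
  haveI : Mono (rf X) := (res_shortExact X).mono_f
  haveI : Epi (rg X) := (res_shortExact X).epi_g
  let α₂ : rI X ⟶ (EtCoh.push f).obj (rI Y) :=
    Injective.factorThru (EtLim.GmPush f ≫ (EtCoh.push f).map (rf Y)) (rf X)
  have h₂ : rf X ≫ α₂ = EtLim.GmPush f ≫ (EtCoh.push f).map (rf Y) := Injective.comp_factorThru _ _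
  have h0 : rf X ≫ α₂ ≫ (EtCoh.push f).map (rg Y) = 0 := by
    rw [reassoc_of% h₂, ← Functor.map_comp, show rf Y ≫ rg Y = 0 from (res Y).shortComplex.zero,
      Functor.map_zero, comp_zero]
  let α₃ : rQ X ⟶ (EtCoh.push f).obj (rQ Y) :=
    (res_shortExact X).exact.desc (α₂ ≫ (EtCoh.push f).map (rg Y)) h0
  have h₃ : rg X ≫ α₃ = α₂ ≫ (EtCoh.push f).map (rg Y) := (res_shortExact X).exact.g_desc _ _
  let β₁ := ((EtCoh.pullPushAdj f).homEquiv _ _).symm (EtLim.GmPush f)
  let β₂ := ((EtCoh.pullPushAdj f).homEquiv _ _).symm α₂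
  let β₃ := ((EtCoh.pullPushAdj f).homEquiv _ _).symm α₃
  have c₁ : β₁ ≫ rf Y = (EtCoh.pull f).map (rf X) ≫ β₂ := by
    rw [← Adjunction.homEquiv_naturality_right_symm, ← Adjunction.homEquiv_naturality_left_symm, h₂]
  have c₂ : β₂ ≫ rg Y = (EtCoh.pull f).map (rg X) ≫ β₃ := by
    rw [← Adjunction.homEquiv_naturality_right_symm, ← Adjunction.homEquiv_naturality_left_symm, h₃]
  let q' : (rQ Y).obj.obj (op (EtCoh.top Y)) :=
    (EtCore.pushGsecIso f).hom.app (rQ Y) ((EtCore.gsec X).map α₃ q)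
  have hq : cls q' = pullC f 1 (cls q) := by
    refine Eq.symm ((EtLimit.HpullThen_extClass f (res_shortExact' X) (res_shortExact' Y) β₁ β₂ β₃ c₁ c₂
      (zero_add 1) (Ext.mk₀ (ofVal (G := rQ X) q))).trans ?_)
    refine congrArg (fun x => Ext.comp x (res_shortExact' Y).extClass (zero_add 1)) ?_
    rw [EtLimit.HpullThen_apply, EtMVLib.Hpull_apply, Ext.mapExactFunctor_mk₀, Ext.mk₀_comp_mk₀,
      Ext.mk₀_comp_mk₀]
    refine congrArg Ext.mk₀ ((constVal_bijective _).1 ?_)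
    rw [Category.assoc, constVal_mapped, constVal_ofVal]
    exact (constVal_ofVal q').symm
  have hlift : ∀ {O : X.Opens} {s : (rI X).obj.obj (op (ZO O))}, IsLift q O s →
      IsLift q' (f ⁻¹ᵁ O) (secPre f (rI Y) O ((α₂.hom.app (op (ZO O))).hom s)) := by
    intro O s hs
    show _ = ((rQ Y).obj.map (toTop (f ⁻¹ᵁ O)).op).hom q'
    rw [secPre_nat]
    refine (congrArg (secPre f (rQ Y) O) (ConcreteCategory.congr_hom
      (congrArg (fun φ : rI X ⟶ (EtCoh.push f).obj (rQ Y) => φ.hom.app (op (ZO O))) h₃.symm) s)).trans ?_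
    show secPre f (rQ Y) O ((α₃.hom.app (op (ZO O))).hom (((rg X).hom.app (op (ZO O))).hom s)) = _
    rw [hs]
    refine (congrArg (secPre f (rQ Y) O) (NatTrans.naturality_apply α₃.hom (toTop O).op q)).trans ?_
    refine (map_map (rQ Y) (openBc f O) ((EtCoh.bc f).map (toTop O)) _).trans
      (Eq.trans ?_ (map_map (rQ Y) _ _ _).symm)
    exact congrArg (fun e => ((rQ Y).obj.map (Quiver.Hom.op e)).hom _) (hom_bcTop_ext f _ _)
  refine ⟨q', _, _, hq, hlift ha, hlift hb, ?_⟩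
  show rmap (rI Y) (f.preimage_mono inf_le_left : f ⁻¹ᵁ (A ⊓ B) ≤ f ⁻¹ᵁ A) _ -
    rmap (rI Y) (f.preimage_mono inf_le_right : f ⁻¹ᵁ (A ⊓ B) ≤ f ⁻¹ᵁ B) _ = _
  rw [← secPre_rmap f (rI Y) inf_le_left, ← secPre_rmap f (rI Y) inf_le_right, ← rmap_nat, ← rmap_nat, ← map_sub,
    ← map_sub, hd]
  refine (congrArg (secPre f (rI Y) (A ⊓ B)) (ConcreteCategory.congr_hom
    (congrArg (fun φ : EtCoh.Gm X ⟶ (EtCoh.push f).obj (rI Y) => φ.hom.app (op (ZO (A ⊓ B)))) h₂) (umk w))).trans ?_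
  exact (secPre_nat f (rf Y) (A ⊓ B) _).symm.trans
    (congrArg ((rf Y).hom.app (op (ZO (f ⁻¹ᵁ (A ⊓ B))))).hom (secPre_GmPush f (A ⊓ B) w))

end Groth.Agent.CurveH2
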