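import Groth.Agent.CurveH2.Cls
import Groth.Agent.CurveH2.Pull
import Groth.Agent.CurveFin.RelDim

/-!
# Coordinates on a smooth curve and the class of the diagonal
-/

set_option autoImplicit false
set_option backward.isDefEq.respectTransparency false
set_option backward.isDefEq.respectTransparency.types false
set_option linter.style.haveILetI false

universe u

open CategoryTheory CategoryTheory.Limits AlgebraicGeometry Opposite TopologicalSpace Polynomial

namespace Groth.Agent.CurveH2

open Groth.Agent.AModX Groth.Agent.GmH1Lib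

variable {k : Type u} [Field k] {C : Scheme.{u}} (f : C ⟶ Spec (CommRingCat.of k))

/-- The constants. -/
noncomputable abbrev cst (V : C.Opens) : k →+* Γ(C, V) :=
  ((Scheme.ΓSpecIso (CommRingCat.of k)).inv ≫ f.appLE ⊤ V le_top).hom

/-- An étale coordinate on an affine open. -/
structure Coord where
  /-- the open -/
  V : C.Opens
  hV : IsAffineOpen V
  /-- the coordinate, as a homomorphism from the polynomials -/
  g : k[X] →+* Γ(C, V)
  hg : g.Etale
  hC : g.comp Polynomial.C = cst f V

/-- Etale coordinates exist near every point of a smooth curve. -/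
theorem exists_coord [IsIntegral C] [Smooth f] (hdim : topologicalKrullDim C = 1) (x : C) :
    ∃ c : Coord f, x ∈ c.V := by
  haveI : SmoothOfRelativeDimension 1 f := CurveFin.smoothOfRelativeDimension_of_dim f (by exact_mod_cast hdim)
  obtain ⟨U, hU, V, hV, hx, e, hf⟩ :=
    SmoothOfRelativeDimension.exists_isStandardSmoothOfRelativeDimension (n := 1) (f := f) x
  obtain rfl : U = ⊤ := top_le_iff.1 fun p _ => by
    rw [Subsingleton.elim p (f x)]; exact e hx
  have h' : RingHom.IsStandardSmoothOfRelativeDimension 1 (cst f V) :=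
    RingHom.isStandardSmoothOfRelativeDimension_respectsIso.2 _
      (Scheme.ΓSpecIso (CommRingCat.of k)).symm.commRingCatIsoToRingEquiv hf
  obtain ⟨ψ, hψC, hψ⟩ := h'.exists_etale_mvPolynomial
  let σ := (MvPolynomial.uniqueAlgEquiv k (Fin 1)).symm.toRingEquiv
  refine ⟨⟨V, hV, ψ.comp σ.toRingHom, RingHom.Etale.respectsIso.2 ψ σ hψ, ?_⟩, hx⟩
  refine RingHom.ext fun a => ?_
  show ψ ((MvPolynomial.uniqueAlgEquiv k (Fin 1)).symm (Polynomial.C a)) = _
  rw [← hψC]
  exact congrArg ψ ((MvPolynomial.uniqueAlgEquiv k (Fin 1)).symm.commutes a)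

namespace Coord

variable {f} (c : Coord f)

/-- The coordinate function. -/
noncomputable def t : Γ(C, c.V) := c.g Polynomial.X

/-- The line. -/
noncomputable abbrev line (k : Type u) [Field k] : Scheme.{u} := Spec (CommRingCat.of k[X])

/-- The structure map of the line. -/
noncomputable abbrev lineStr (k : Type u) [Field k] : line k ⟶ Spec (CommRingCat.of k) :=
  Spec.map (CommRingCat.ofHom (Polynomial.C : k →+* k[X]))

/-- The coordinate as a morphism to the line. -/
noncomputable def τ : c.V.toScheme ⟶ line k := c.V.toSpecΓ ≫ Spec.map (CommRingCat.ofHom c.g)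

instance : Etale c.τ := by
  haveI : IsAffine c.V.toScheme := c.hV
  haveI : IsIso c.V.toSpecΓ := by rw [← c.hV.isoSpec_hom]; infer_instance
  haveI : Etale (Spec.map (CommRingCat.ofHom c.g)) := HasRingHomProperty.Spec_iff.2 c.hg
  delta τ
  infer_instance

theorem τ_appTop (p : k[X]) :
    c.τ.appTop ((Scheme.ΓSpecIso (CommRingCat.of k[X])).inv p) = c.V.topIso.inv (c.g p) := by
  rw [τ, Scheme.Hom.comp_appTop]
  show c.V.toSpecΓ.appTop ((Spec.map (CommRingCat.ofHom c.g)).appTop _) = _
  have := ConcreteCategory.congr_hom (Scheme.ΓSpecIso_inv_naturality (CommRingCat.ofHom c.g)) p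
  refine (congrArg c.V.toSpecΓ.appTop this.symm).trans ?_
  rw [Scheme.Opens.toSpecΓ_appTop]
  exact congrArg c.V.topIso.inv ((Scheme.ΓSpecIso Γ(C, c.V)).inv_hom_id_apply _)

/-- The structure map of the domain. -/
noncomputable abbrev str : c.V.toScheme ⟶ Spec (CommRingCat.of k) := c.V.ι ≫ f

theorem τ_str : c.τ ≫ lineStr k = c.str := by
  refine ext_of_isAffine ?_
  rw [← cancel_epi (Scheme.ΓSpecIso (CommRingCat.of k)).inv]
  ext a
  show (c.τ ≫ lineStr k).appTop ((Scheme.ΓSpecIso (CommRingCat.of k)).inv a) = _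
  rw [Scheme.Hom.comp_appTop]
  show c.τ.appTop ((lineStr k).appTop _) = _
  have := ConcreteCategory.congr_hom
    (Scheme.ΓSpecIso_inv_naturality (CommRingCat.ofHom (Polynomial.C : k →+* k[X]))) a
  refine (congrArg c.τ.appTop this.symm).trans ?_
  refine (c.τ_appTop _).trans ?_
  refine (congrArg c.V.topIso.inv (RingHom.congr_fun c.hC a)).trans ?_
  refine ConcreteCategory.congr_hom (?_ : f.appLE ⊤ c.V le_top ≫ c.V.topIso.inv = c.str.appTop) _
  rw [Scheme.Hom.comp_appTop, Scheme.Opens.ι_appTop, Scheme.Opens.topIso_inv, Scheme.Hom.appTop,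
    Scheme.Hom.appLE_map, Scheme.Hom.appLE]

/-- Two points of the domain with the same coordinate lie in the same point of the product over the line. -/
theorem hom_line_ext {T : Scheme.{u}} (a b : T ⟶ line k) (h : a ≫ lineStr k = b ≫ lineStr k)
    (hX : a.appTop ((Scheme.ΓSpecIso (CommRingCat.of k[X])).inv Polynomial.X) =
      b.appTop ((Scheme.ΓSpecIso (CommRingCat.of k[X])).inv Polynomial.X)) : a = b := by
  refine ext_of_isAffine ?_
  rw [← cancel_epi (Scheme.ΓSpecIso (CommRingCat.of k[X])).inv]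
  refine CommRingCat.hom_ext (Polynomial.ringHom_ext (fun z => ?_) hX)
  have := ConcreteCategory.congr_hom
    (Scheme.ΓSpecIso_inv_naturality (CommRingCat.ofHom (Polynomial.C : k →+* k[X]))) z
  show a.appTop ((Scheme.ΓSpecIso (CommRingCat.of k[X])).inv (CommRingCat.ofHom (Polynomial.C : k →+* k[X]) z)) =
    b.appTop ((Scheme.ΓSpecIso (CommRingCat.of k[X])).inv (CommRingCat.ofHom (Polynomial.C : k →+* k[X]) z))
  erw [this]
  exact ConcreteCategory.congr_hom (congrArg Scheme.Hom.appTop h) _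

/-- The product of the curve with the domain. -/
noncomputable abbrev P : Scheme.{u} := pullback f c.str

/-- The part over the domain in both factors. -/
noncomputable abbrev V₁ : c.P.Opens := pullback.fst f c.str ⁻¹ᵁ c.V

/-- The first coordinate. -/
noncomputable abbrev a₁ : c.V₁.toScheme ⟶ line k :=
  (pullback.fst f c.str).resLE c.V c.V₁ le_rfl ≫ c.τ

/-- The second coordinate. -/
noncomputable abbrev a₂ : c.V₁.toScheme ⟶ line k := c.V₁.ι ≫ pullback.snd f c.str ≫ c.τ

theorem a₁_str : c.a₁ ≫ lineStr k = c.a₂ ≫ lineStr k := by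
  simp only [a₁, a₂, Category.assoc, c.τ_str]
  rw [← Category.assoc, Scheme.Hom.resLE_comp_ι, Category.assoc, pullback.condition]

/-- The equation of the diagonal. -/
noncomputable def eqn : Γ(c.V₁.toScheme, ⊤) :=
  c.a₁.appTop ((Scheme.ΓSpecIso (CommRingCat.of k[X])).inv Polynomial.X) -
    c.a₂.appTop ((Scheme.ΓSpecIso (CommRingCat.of k[X])).inv Polynomial.X)

/-- The graph of the inclusion. -/
noncomputable abbrev graph : c.V.toScheme ⟶ c.P :=
  pullback.lift c.V.ι (𝟙 _) (by rw [Category.id_comp])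

theorem eqPairs_cond : (pullback.fst c.τ c.τ ≫ c.V.ι) ≫ f = pullback.snd c.τ c.τ ≫ c.str := by
  rw [Category.assoc]
  show pullback.fst c.τ c.τ ≫ c.str = _
  rw [← c.τ_str, pullback.condition_assoc]

/-- The pairs of points with the same coordinate. -/
noncomputable abbrev eqPairs : pullback c.τ c.τ ⟶ c.V₁.toScheme :=
  IsOpenImmersion.lift c.V₁.ι
    (pullback.lift (pullback.fst c.τ c.τ ≫ c.V.ι) (pullback.snd c.τ c.τ) c.eqPairs_cond)
    (by
      rintro _ ⟨z, rfl⟩
      rw [Scheme.Opens.range_ι]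
      show pullback.fst f c.str _ ∈ c.V
      rw [← Scheme.Hom.comp_apply, pullback.lift_fst]
      exact (pullback.fst c.τ c.τ z).2)

theorem eqPairs_ι : c.eqPairs ≫ c.V₁.ι =
    pullback.lift (pullback.fst c.τ c.τ ≫ c.V.ι) (pullback.snd c.τ c.τ) c.eqPairs_cond :=
  IsOpenImmersion.lift_fac _ _ _

theorem eqPairs_a₁ : c.eqPairs ≫ c.a₁ = pullback.fst c.τ c.τ ≫ c.τ := by
  rw [a₁, ← Category.assoc]
  congr 1
  rw [← cancel_mono c.V.ι, Category.assoc, Scheme.Hom.resLE_comp_ι, ← Category.assoc, c.eqPairs_ι,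
    pullback.lift_fst]

theorem eqPairs_a₂ : c.eqPairs ≫ c.a₂ = pullback.snd c.τ c.τ ≫ c.τ := by
  rw [a₂, ← Category.assoc, c.eqPairs_ι, pullback.lift_snd_assoc]

variable [IsSeparated f]

instance : IsClosedImmersion c.eqPairs := by
  let q : c.V₁.toScheme ⟶ pullback c.str c.str :=
    pullback.lift ((pullback.fst f c.str).resLE c.V c.V₁ le_rfl) (c.V₁.ι ≫ pullback.snd f c.str) (by
      show _ ≫ c.V.ι ≫ f = _
      rw [← Category.assoc, Scheme.Hom.resLE_comp_ι, Category.assoc, Category.assoc, pullback.condition])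
  haveI : IsClosedImmersion (pullback.lift (pullback.fst c.τ c.τ) (pullback.snd c.τ c.τ)
      (by rw [← c.τ_str, pullback.condition_assoc]) : pullback c.τ c.τ ⟶ pullback c.str c.str) := by
    have e : (pullback.lift (pullback.fst c.τ c.τ) (pullback.snd c.τ c.τ)
        (by rw [← c.τ_str, pullback.condition_assoc]) : pullback c.τ c.τ ⟶ pullback c.str c.str) =
        pullback.mapDesc c.τ c.τ (lineStr k) ≫ (pullback.congrHom c.τ_str c.τ_str).hom := by
      refine pullback.hom_ext ?_ ?_ <;> simp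
    rw [e]
    infer_instance
  have e : c.eqPairs ≫ q = pullback.lift (pullback.fst c.τ c.τ) (pullback.snd c.τ c.τ)
      (by rw [← c.τ_str, pullback.condition_assoc]) := by
    refine pullback.hom_ext ?_ ?_
    · rw [Category.assoc, pullback.lift_fst, pullback.lift_fst, ← cancel_mono c.V.ι, Category.assoc,
        Scheme.Hom.resLE_comp_ι, ← Category.assoc, c.eqPairs_ι, pullback.lift_fst]
    · rw [Category.assoc, pullback.lift_snd, pullback.lift_snd, ← Category.assoc, c.eqPairs_ι, pullback.lift_snd]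
  haveI : IsSeparated q := by
    haveI : IsAffine c.V.toScheme := c.hV
    haveI : IsSeparated c.str := inferInstance
    haveI : IsSeparated (q ≫ pullback.snd c.str c.str ≫ c.str) := by
      rw [pullback.lift_snd_assoc, Category.assoc, ← pullback.condition]
      infer_instance
    exact IsSeparated.of_comp q (pullback.snd c.str c.str ≫ c.str)
  haveI : IsClosedImmersion (c.eqPairs ≫ q) := by rw [e]; infer_instance
  exact IsClosedImmersion.of_comp c.eqPairs q

/-- The pairs of equal points. -/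
noncomputable abbrev diag : c.V.toScheme ⟶ pullback c.τ c.τ := pullback.diagonal c.τ

theorem diag_eqPairs : c.diag ≫ c.eqPairs ≫ c.V₁.ι = c.graph := by
  rw [c.eqPairs_ι]
  refine pullback.hom_ext ?_ ?_ <;> simp

instance : IsOpenImmersion c.diag := inferInstance

/-- The pairs of distinct points with the same coordinate. -/
def offDiag : Set c.V₁.toScheme := c.eqPairs '' (Set.range c.diag)ᶜ

theorem isClosed_offDiag : IsClosed c.offDiag :=
  c.eqPairs.isClosedEmbedding.isClosedMap _ c.diag.isOpenEmbedding.isOpen_range.isClosed_compl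

/-- The neighbourhood of the diagonal. -/
noncomputable def B : c.P.Opens := c.V₁.ι ''ᵁ ⟨c.offDiagᶜ, c.isClosed_offDiag.isOpen_compl⟩

theorem B_le : c.B ≤ c.V₁ := c.V₁.ι_image_le _

theorem mem_eqPairs_range (y : c.V₁.toScheme) (hy : y ∉ c.V₁.toScheme.basicOpen c.eqn) :
    y ∈ Set.range c.eqPairs := by
  let χ := c.V₁.toScheme.fromSpecResidueField y
  have h0 : χ.appTop c.eqn = 0 := by
    rw [← basicOpen_eq_bot_iff, ← Scheme.preimage_basicOpen_top]
    refine eq_bot_iff.2 fun s hs => ?_
    have hs' : χ s ∈ c.V₁.toScheme.basicOpen c.eqn := hs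
    rw [Scheme.fromSpecResidueField_apply] at hs'
    exact hy hs'
  have e : χ ≫ c.a₁ = χ ≫ c.a₂ := by
    refine hom_line_ext _ _ (by simp only [Category.assoc, c.a₁_str]) ?_
    rw [← sub_eq_zero]
    show χ.appTop (c.a₁.appTop _) - χ.appTop (c.a₂.appTop _) = 0
    rw [← map_sub]
    exact h0
  let z : Spec (c.V₁.toScheme.residueField y) ⟶ pullback c.τ c.τ :=
    pullback.lift (χ ≫ (pullback.fst f c.str).resLE c.V c.V₁ le_rfl) (χ ≫ c.V₁.ι ≫ pullback.snd f c.str)
      (by simpa only [a₁, a₂, Category.assoc] using e)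
  have hz : z ≫ c.eqPairs = χ := by
    rw [← cancel_mono c.V₁.ι, Category.assoc, c.eqPairs_ι]
    refine pullback.hom_ext ?_ ?_
    · rw [Category.assoc, pullback.lift_fst, pullback.lift_fst_assoc, Category.assoc, Scheme.Hom.resLE_comp_ι,
        Category.assoc]
    · rw [Category.assoc, pullback.lift_snd, pullback.lift_snd, Category.assoc]
  refine ⟨z (IsLocalRing.closedPoint _), ?_⟩
  rw [← Scheme.Hom.comp_apply, hz]
  exact Scheme.fromSpecResidueField_apply _ _

theorem mem_B_iff (y : c.V₁.toScheme) : c.V₁.ι y ∈ c.B ↔ y ∉ c.offDiag := by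
  constructor
  · rintro ⟨y', hy', e⟩
    exact c.V₁.ι.isOpenEmbedding.injective e ▸ hy'
  · exact fun h => ⟨y, h, rfl⟩

theorem graph_mem_B (v : c.V.toScheme) : c.graph v ∈ c.B := by
  rw [← c.diag_eqPairs, Scheme.Hom.comp_apply, Scheme.Hom.comp_apply]
  refine (c.mem_B_iff _).2 ?_
  rintro ⟨z, hz, e⟩
  exact hz ⟨v, (c.eqPairs.isClosedEmbedding.injective e).symm⟩

/-- The complement of the graph. -/
noncomputable def A : c.P.Opens :=
  ⟨(Set.range c.graph)ᶜ, by
    haveI : IsClosedImmersion c.graph := by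
      haveI : IsClosedImmersion (c.graph ≫ pullback.snd f c.str) := by rw [pullback.lift_snd]; infer_instance
      exact IsClosedImmersion.of_comp c.graph (pullback.snd f c.str)
    exact c.graph.isClosedEmbedding.isClosed_range.isOpen_compl⟩

theorem A_sup_B : c.A ⊔ c.B = ⊤ := by
  refine top_le_iff.1 fun y _ => ?_
  by_cases h : y ∈ Set.range c.graph
  · obtain ⟨v, rfl⟩ := h
    exact Or.inr (c.graph_mem_B v)
  · exact Or.inl h

/-- The equation as a section on the part over the domain. -/
noncomputable def eqn' : Γ(c.P, c.V₁) := c.V₁.topIso.hom c.eqn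

theorem isUnit_eqn : IsUnit (resR (inf_le_right.trans c.B_le : c.A ⊓ c.B ≤ c.V₁) c.eqn') := by
  refine Groth.Agent.AModX.isUnit_resR _ _ ?_
  rintro y ⟨hyA, hyB⟩
  obtain ⟨y', hy', rfl⟩ : ∃ y', y' ∉ c.offDiag ∧ c.V₁.ι y' = y := by
    obtain ⟨y', hy', e⟩ := hyB
    exact ⟨y', hy', e⟩
  have hb : y' ∈ c.V₁.toScheme.basicOpen c.eqn := by
    by_contra hb
    obtain ⟨z, hz⟩ := c.mem_eqPairs_range y' hb
    refine hy' ⟨z, ?_, hz⟩
    rintro ⟨v, rfl⟩
    refine hyA ⟨v, ?_⟩
    rw [← hz, ← c.diag_eqPairs, Scheme.Hom.comp_apply, Scheme.Hom.comp_apply]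
  have : c.V₁.ι ''ᵁ c.V₁.toScheme.basicOpen c.eqn = c.P.basicOpen c.eqn' := by
    refine Eq.trans ?_ (Scheme.Opens.ι_image_basicOpen_topIso_inv c.V₁ c.eqn')
    exact congrArg (fun r => c.V₁.ι ''ᵁ c.V₁.toScheme.basicOpen r) (c.V₁.topIso.hom_inv_id_apply c.eqn).symm
  exact this.le ⟨y', hb, rfl⟩

/-- The unit cutting out the diagonal. -/
noncomputable def wΔ : Γ(c.P, c.A ⊓ c.B)ˣ := c.isUnit_eqn.unit

end Coord

end Groth.Agent.CurveH2
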