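import Groth.Agent.CurveH2.Coord

/-!
# The diagonal class at a rational point
-/

set_option autoImplicit false
set_option backward.isDefEq.respectTransparency false
set_option backward.isDefEq.respectTransparency.types false
set_option linter.style.haveILetI false

universe u

open CategoryTheory CategoryTheory.Limits AlgebraicGeometry Opposite TopologicalSpace Polynomial

namespace Groth.Agent.CurveH2.Coord

open Groth.Agent.AModX Groth.Agent.GmH1Lib Groth.Agent.EtFound

variable {k : Type u} [Field k] {C : Scheme.{u}} {f : C ⟶ Spec (CommRingCat.of k)} (c : Coord f)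
  [IsSeparated f] (b : Spec (CommRingCat.of k) ⟶ c.V.toScheme) (hb : b ≫ c.str = 𝟙 _)

/-- The section through a rational point. -/
noncomputable def sec : C ⟶ c.P :=
  pullback.lift (𝟙 C) (f ≫ b) (by rw [Category.id_comp, Category.assoc, hb, Category.comp_id])

omit [IsSeparated f] in
theorem sec_fst : c.sec b hb ≫ pullback.fst f c.str = 𝟙 C := pullback.lift_fst _ _ _

omit [IsSeparated f] in
theorem sec_snd : c.sec b hb ≫ pullback.snd f c.str = f ≫ b := pullback.lift_snd _ _ _

/-- The point. -/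
noncomputable def pt : C := c.V.ι (b (IsLocalRing.closedPoint k))

omit [IsSeparated f] in
include hb in
theorem point_graph : (b ≫ c.V.ι) ≫ c.sec b hb = b ≫ c.graph := by
  refine pullback.hom_ext ?_ ?_
  · simp only [sec, Category.assoc, pullback.lift_fst, Category.comp_id]
  · simp only [sec, Category.assoc, pullback.lift_snd, Category.comp_id]
    show b ≫ c.V.ι ≫ f ≫ b = b
    rw [← Category.assoc c.V.ι, ← Category.assoc b]
    show (b ≫ c.str) ≫ b = b
    rw [hb, Category.id_comp]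

include hb in
theorem sec_pt_mem_B : c.sec b hb (c.pt b) ∈ c.B := by
  have := congrArg (fun φ => φ (IsLocalRing.closedPoint k)) (c.point_graph b hb)
  simp only [Scheme.Hom.comp_apply] at this
  exact this ▸ c.graph_mem_B _

theorem preimage_A (hx : IsClosed ({c.pt b} : Set C)) :
    c.sec b hb ⁻¹ᵁ c.A = offPt C (c.pt b) hx := by
  ext y
  show c.sec b hb y ∉ Set.range c.graph ↔ y ≠ c.pt b
  refine not_congr ⟨?_, ?_⟩
  · rintro ⟨v, hv⟩
    have h1 := congrArg (pullback.fst f c.str) hv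
    have h2 := congrArg (pullback.snd f c.str) hv
    simp only [← Scheme.Hom.comp_apply, pullback.lift_fst, pullback.lift_snd, c.sec_fst b hb, c.sec_snd b hb] at h1 h2
    simp only [Scheme.Hom.comp_apply] at h1 h2
    change c.V.ι v = y at h1
    change v = b (f y) at h2
    rw [← h1, h2, Subsingleton.elim (f y) (IsLocalRing.closedPoint k)]
    rfl
  · rintro rfl
    have := congrArg (fun φ => φ (IsLocalRing.closedPoint k)) (c.point_graph b hb)
    simp only [Scheme.Hom.comp_apply] at this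
    exact ⟨_, this.symm⟩

theorem preimage_B_le : c.sec b hb ⁻¹ᵁ c.B ≤ c.V := fun y hy => by
  have h : pullback.fst f c.str (c.sec b hb y) ∈ c.V := c.B_le hy
  rwa [← Scheme.Hom.comp_apply, c.sec_fst b hb] at h

/-- The value of the coordinate at the point. -/
noncomputable def val : k :=
  (Scheme.ΓSpecIso (CommRingCat.of k)).hom
    ((b ≫ c.τ).appTop ((Scheme.ΓSpecIso (CommRingCat.of k[X])).inv Polynomial.X))

include hb in
omit [IsSeparated f] in
theorem point_line : b ≫ c.τ = Spec.map (CommRingCat.ofHom (Polynomial.evalRingHom (c.val b))) := by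
  refine hom_line_ext _ _ ?_ ?_
  · rw [Category.assoc, c.τ_str, hb, ← Spec.map_comp, ← CommRingCat.ofHom_comp]
    have : (Polynomial.evalRingHom (c.val b)).comp (Polynomial.C : k →+* k[X]) = RingHom.id k :=
      RingHom.ext fun a => by simp
    rw [this, CommRingCat.ofHom_id, Spec.map_id]
  · have := ConcreteCategory.congr_hom (Scheme.ΓSpecIso_inv_naturality
      (CommRingCat.ofHom (Polynomial.evalRingHom (c.val b)))) Polynomial.X
    refine Eq.trans ?_ this
    show _ = (Scheme.ΓSpecIso (CommRingCat.of k)).inv ((Polynomial.evalRingHom (c.val b)) Polynomial.X)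
    rw [Polynomial.coe_evalRingHom, Polynomial.eval_X, val]
    exact ((Scheme.ΓSpecIso (CommRingCat.of k)).hom_inv_id_apply _).symm

/-- The coordinate minus its value. -/
noncomputable def t₀ : Γ(C, c.V) := c.g (Polynomial.X - Polynomial.C (c.val b))

omit [IsSeparated f] in
theorem t₀_eq : c.t₀ b = c.t - cst f c.V (c.val b) := by
  rw [t₀, map_sub]
  exact congrArg (c.t - ·) (RingHom.congr_fun c.hC (c.val b))

include hb in
omit [IsSeparated f] in
theorem span_germ :
    Ideal.span {C.presheaf.germ c.V (c.pt b) (b (IsLocalRing.closedPoint k)).2 (c.t₀ b)} =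
      IsLocalRing.maximalIdeal (C.presheaf.stalk (c.pt b)) := by
  let v : c.V := b (IsLocalRing.closedPoint k)
  have hp : Ideal.comap c.g (c.hV.primeIdealOf v).asIdeal = Ideal.span {Polynomial.X - Polynomial.C (c.val b)} := by
    have h1 := congrArg (fun φ => φ (IsLocalRing.closedPoint k)) (c.point_line b hb)
    simp only [Scheme.Hom.comp_apply, τ, ← c.hV.isoSpec_hom] at h1
    have h2 := congrArg PrimeSpectrum.asIdeal h1
    refine Eq.trans h2 ?_
    show Ideal.comap (Polynomial.evalRingHom (c.val b)) (IsLocalRing.maximalIdeal k) = _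
    rw [IsLocalRing.isField_iff_maximalIdeal_eq.1 (Field.toIsField k)]
    exact Polynomial.ker_evalRingHom _
  letI := c.g.toAlgebra
  haveI : Algebra.Etale k[X] Γ(C, c.V) := c.hg
  haveI := (c.hV.primeIdealOf v).isPrime
  haveI : (c.hV.primeIdealOf v).asIdeal.LiesOver (Ideal.comap c.g (c.hV.primeIdealOf v).asIdeal) := ⟨rfl⟩
  letI := Localization.AtPrime.algebraOfLiesOver (Ideal.comap c.g (c.hV.primeIdealOf v).asIdeal)
    (c.hV.primeIdealOf v).asIdeal
  haveI : Localization.AtPrime.IsLiesOverAlgebra (Ideal.comap c.g (c.hV.primeIdealOf v).asIdeal)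
    (c.hV.primeIdealOf v).asIdeal := ⟨rfl⟩
  have h3 := ((Algebra.isUnramifiedAt_iff_map_eq k[X] (Ideal.comap c.g (c.hV.primeIdealOf v).asIdeal)
    (c.hV.primeIdealOf v).asIdeal).1 inferInstance).2
  letI : Algebra Γ(C, c.V) (C.presheaf.stalk (c.pt b)) := TopCat.Presheaf.algebra_section_stalk C.presheaf v
  haveI : IsLocalization.AtPrime (C.presheaf.stalk (c.pt b)) (c.hV.primeIdealOf v).asIdeal :=
    c.hV.isLocalization_stalk v
  let e : Localization.AtPrime (c.hV.primeIdealOf v).asIdeal ≃ₐ[Γ(C, c.V)] C.presheaf.stalk (c.pt b) :=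
    IsLocalization.algEquiv (c.hV.primeIdealOf v).asIdeal.primeCompl _ _
  rw [hp, Ideal.map_span, Set.image_singleton] at h3
  have h4 := congrArg (Ideal.map e.toRingEquiv.toRingHom) h3
  rw [Ideal.map_span, Set.image_singleton] at h4
  have h5 : Ideal.map e.toRingEquiv.toRingHom (IsLocalRing.maximalIdeal _) =
      IsLocalRing.maximalIdeal (C.presheaf.stalk (c.pt b)) := by
    haveI := Ideal.map_isMaximal_of_equiv e.toRingEquiv
      (p := IsLocalRing.maximalIdeal (Localization.AtPrime (c.hV.primeIdealOf v).asIdeal))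
    exact IsLocalRing.eq_maximalIdeal this
  refine Eq.trans ?_ (h4.trans h5)
  congr 2
  exact (e.commutes (c.t₀ b)).symm

theorem appTop_homOfLE {W V : C.Opens} (h : W ≤ V) (a : Γ(C, V)) :
    (C.homOfLE h).appTop (V.topIso.inv a) = W.topIso.inv (resR h a) := by
  refine ConcreteCategory.congr_hom (?_ : V.topIso.inv ≫ (C.homOfLE h).appTop = C.presheaf.map (homOfLE h).op ≫ W.topIso.inv) a
  simp only [Scheme.Opens.topIso_inv, Scheme.Hom.appTop, Scheme.homOfLE_app]
  exact (C.presheaf.map_comp _ _).symm.trans ((congrArg C.presheaf.map (Subsingleton.elim _ _)).trans (C.presheaf.map_comp _ _))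

include hb in
theorem sec_eqn' {W : C.Opens} (hWV : W ≤ c.V) (hW : W ≤ c.sec b hb ⁻¹ᵁ c.V₁) :
    (c.sec b hb).appLE c.V₁ W hW c.eqn' = resR hWV (c.t₀ b) := by
  let σ := (c.sec b hb).resLE c.V₁ W hW
  have h0 : (c.sec b hb).appLE c.V₁ W hW c.eqn' = W.topIso.hom (σ.appTop c.eqn) := by
    show _ = W.topIso.hom (((c.sec b hb).resLE c.V₁ W hW).app ⊤ c.eqn)
    rw [Scheme.Hom.resLE_app_top]
    exact (W.topIso.inv_hom_id_apply _).symm
  rw [h0, eqn, map_sub]
  have e₁ : σ ≫ c.a₁ = C.homOfLE hWV ≫ c.τ := by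
    rw [a₁, ← Category.assoc]
    congr 1
    rw [← cancel_mono c.V.ι, Category.assoc, Scheme.Hom.resLE_comp_ι, ← Category.assoc, Scheme.Hom.resLE_comp_ι,
      Category.assoc, c.sec_fst b hb, Category.comp_id, Scheme.homOfLE_ι]
  have e₂ : σ ≫ c.a₂ = (W.ι ≫ f) ≫ b ≫ c.τ := by
    rw [a₂, ← Category.assoc, Scheme.Hom.resLE_comp_ι, Category.assoc, ← Category.assoc (c.sec b hb),
      c.sec_snd b hb]
    simp only [Category.assoc]
  let ξ := (Scheme.ΓSpecIso (CommRingCat.of k[X])).inv Polynomial.X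
  have r₁ : σ.appTop (c.a₁.appTop ξ) = (C.homOfLE hWV).appTop (c.τ.appTop ξ) :=
    ((ConcreteCategory.congr_hom (Scheme.Hom.comp_appTop σ c.a₁) ξ).symm.trans
      (ConcreteCategory.congr_hom (congrArg Scheme.Hom.appTop e₁) ξ)).trans
      (ConcreteCategory.congr_hom (Scheme.Hom.comp_appTop _ _) ξ)
  have r₂ : σ.appTop (c.a₂.appTop ξ) = (W.ι ≫ f).appTop ((b ≫ c.τ).appTop ξ) :=
    ((ConcreteCategory.congr_hom (Scheme.Hom.comp_appTop σ c.a₂) ξ).symm.trans
      (ConcreteCategory.congr_hom (congrArg Scheme.Hom.appTop e₂) ξ)).trans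
      (ConcreteCategory.congr_hom (Scheme.Hom.comp_appTop _ _) ξ)
  rw [r₁, r₂, τ_appTop, appTop_homOfLE, map_sub, t₀_eq, map_sub, Iso.inv_hom_id_apply]
  congr 1
  show W.topIso.hom ((W.ι ≫ f).appTop ((b ≫ c.τ).appTop _)) = resR hWV (cst f c.V (c.val b))
  have hv : (b ≫ c.τ).appTop ((Scheme.ΓSpecIso (CommRingCat.of k[X])).inv Polynomial.X) =
      (Scheme.ΓSpecIso (CommRingCat.of k)).inv (c.val b) := by
    rw [val]; exact ((Scheme.ΓSpecIso (CommRingCat.of k)).hom_inv_id_apply _).symm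
  rw [hv]
  refine ConcreteCategory.congr_hom
    (?_ : (W.ι ≫ f).appTop ≫ W.topIso.hom = f.appLE ⊤ c.V le_top ≫ C.presheaf.map (homOfLE hWV).op)
    ((Scheme.ΓSpecIso (CommRingCat.of k)).inv (c.val b))
  rw [Scheme.Hom.comp_appTop, Scheme.Opens.ι_appTop, Scheme.Opens.topIso_hom, Category.assoc,
    ← Functor.map_comp, Scheme.Hom.appLE_map, Scheme.Hom.appLE]
  rfl

variable [IsIntegral C]

include hb in
/-- The diagonal class restricts to the class of the point. -/
theorem isPointClass_sec [PreservesFiniteLimits (EtCoh.pull (c.sec b hb))]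
    (hx : IsClosed ({c.pt b} : Set C)) {d : EtCoh.H c.P (EtCoh.Gm c.P) 1} (hd : HasDiff c.A c.B c.wΔ d) :
    IsPointClass (c.pt b) hx (pullC (c.sec b hb) 1 d) := by
  have h := hd.pull (c.sec b hb)
  have hA := c.preimage_A b hb hx
  let W := c.sec b hb ⁻¹ᵁ c.B
  have h' := h.refine hA.ge (le_refl W)
  refine ⟨W, c.sec_pt_mem_B b hb, resR (c.preimage_B_le b hb) (c.t₀ b), _, ?_, ?_, h'⟩
  · show resR (inf_le_inf hA.ge (le_refl W)) ((c.sec b hb).app (c.A ⊓ c.B) (c.wΔ : Γ(c.P, c.A ⊓ c.B))) = _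
    rw [show ((c.wΔ : Γ(c.P, c.A ⊓ c.B))) = resR (inf_le_right.trans c.B_le) c.eqn' from IsUnit.unit_spec _,
      resR_resR]
    have hW : offPt C (c.pt b) hx ⊓ W ≤ c.sec b hb ⁻¹ᵁ c.V₁ :=
      inf_le_right.trans ((c.sec b hb).preimage_mono c.B_le)
    refine Eq.trans ?_ (c.sec_eqn' b hb (inf_le_right.trans (c.preimage_B_le b hb)) hW)
    refine ConcreteCategory.congr_hom (?_ : c.P.presheaf.map (homOfLE (inf_le_right.trans c.B_le :
      c.A ⊓ c.B ≤ c.V₁)).op ≫ (c.sec b hb).app (c.A ⊓ c.B) ≫ C.presheaf.map (homOfLE (inf_le_inf hA.ge (le_refl W))).op =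
      (c.sec b hb).appLE c.V₁ _ hW) c.eqn'
    rw [← Scheme.Hom.appLE_eq_app, Scheme.Hom.appLE_map, Scheme.Hom.map_appLE]
  · rw [← c.span_germ b hb]
    congr 2
    exact C.presheaf.germ_res_apply (homOfLE (c.preimage_B_le b hb)) _ _ _

end Groth.Agent.CurveH2.Coord
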