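import Groth.Agent.CurveH2.Pull
import Groth.Agent.EtLC12.MuConst
import Groth.Agent.EtTrace.Kummer

/-!
# The Kummer boundary and inverse images
-/

set_option autoImplicit false
set_option backward.isDefEq.respectTransparency false
set_option backward.isDefEq.respectTransparency.types false

universe u

open CategoryTheory CategoryTheory.Limits AlgebraicGeometry Opposite CategoryTheory.Abelian

namespace Groth.Agent.CurveH2

open Groth.Agent.EtFound Groth.Agent.GmH1Lib Groth.Agent.EtMVLib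

variable {X Y Z : Scheme.{u}} (n : ℕ)

/-- The Kummer sequence. -/
noncomputable def kum (X : Scheme.{u}) : ShortComplex (EtCoh.Ab X) :=
  ShortComplex.mk (EtCoh.muι X n) (EtCoh.powMap X n) (kernel.condition _)

theorem kum_shortExact (hn : IsUnit (n : Γ(X, ⊤))) : (kum n X).ShortExact where
  exact := ShortComplex.exact_of_f_is_kernel _ (kernelIsKernel _)
  mono_f := inferInstanceAs (Mono (kernel.ι _))
  epi_g := S0108.result X n hn

/-- The Kummer boundary. -/
noncomputable def kδ (hn : IsUnit (n : Γ(X, ⊤))) :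
    EtCoh.H X (EtCoh.Gm X) 1 →+ EtCoh.H X (EtCoh.mu X n) 2 :=
  AddMonoidHom.mk' (fun c => Ext.comp c (kum_shortExact n hn).extClass (show 1 + 1 = 2 from rfl))
    fun a b => Ext.add_comp a b _ _

theorem kδ_apply (hn : IsUnit (n : Γ(X, ⊤))) (c : EtCoh.H X (EtCoh.Gm X) 1) :
    kδ n hn c = Ext.comp c (kum_shortExact n hn).extClass (show 1 + 1 = 2 from rfl) := rfl

theorem kδ_surjective (hn : IsUnit (n : Γ(X, ⊤))) [Subsingleton (EtCoh.H X (EtCoh.Gm X) 2)]
    (ξ : EtCoh.H X (EtCoh.mu X n) 2) : ∃ c, kδ n hn c = ξ := by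
  obtain ⟨c, hc⟩ := Ext.covariant_sequence_exact₁ _ (kum_shortExact n hn) ξ
    (@Subsingleton.elim (EtCoh.H X (EtCoh.Gm X) 2) _ _ _)
    (n₀ := 1) rfl
  exact ⟨c, hc⟩

instance mono_muι (X : Scheme.{u}) : Mono (EtCoh.muι X n) := inferInstanceAs (Mono (kernel.ι _))

variable (f : Y ⟶ X)

theorem pull_powMap : (EtCoh.pull f).map (EtCoh.powMap X n) ≫ gmPull f = gmPull f ≫ EtCoh.powMap Y n := by
  haveI : PreservesFiniteLimits (EtCoh.pull f) := EtFound.pull_preservesFiniteLimits f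
  rw [EtCoh.powMap, EtCoh.powMap, Functor.map_nsmul, CategoryTheory.Functor.map_id, Preadditive.nsmul_comp,
    Preadditive.comp_nsmul, Category.id_comp, Category.comp_id]

/-- Inverse image of roots of unity. -/
noncomputable def muPull : (EtCoh.pull f).obj (EtCoh.mu X n) ⟶ EtCoh.mu Y n :=
  kernel.lift _ ((EtCoh.pull f).map (EtCoh.muι X n) ≫ gmPull f) (by
    haveI : PreservesFiniteLimits (EtCoh.pull f) := EtFound.pull_preservesFiniteLimits f
    rw [Category.assoc, ← pull_powMap, ← Functor.map_comp_assoc,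
      show EtCoh.muι X n ≫ EtCoh.powMap X n = 0 from kernel.condition _, Functor.map_zero, zero_comp])

theorem muPull_ι : muPull n f ≫ EtCoh.muι Y n = (EtCoh.pull f).map (EtCoh.muι X n) ≫ gmPull f :=
  kernel.lift_ι _ _ _

/-- Inverse image of classes of roots of unity. -/
noncomputable def pullMu [PreservesFiniteLimits (EtCoh.pull f)] (i : ℕ) :
    EtCoh.H X (EtCoh.mu X n) i →+ EtCoh.H Y (EtCoh.mu Y n) i :=
  EtLim.HpullThen f (EtCoh.mu X n) (muPull n f) i

theorem kδ_pull [PreservesFiniteLimits (EtCoh.pull f)] (hn : IsUnit (n : Γ(X, ⊤)))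
    (hn' : IsUnit (n : Γ(Y, ⊤))) (c : EtCoh.H X (EtCoh.Gm X) 1) :
    pullMu n f 2 (kδ n hn c) = kδ n hn' (pullC f 1 c) :=
  EtLimit.HpullThen_extClass f (kum_shortExact n hn) (kum_shortExact n hn') (muPull n f) (gmPull f) (gmPull f)
    (muPull_ι n f) (pull_powMap n f).symm rfl c

theorem pullC_comp (g : Z ⟶ Y) (h : Z ⟶ X) (w : g ≫ f = h)
    [PreservesFiniteLimits (EtCoh.pull f)] [PreservesFiniteLimits (EtCoh.pull g)]
    [PreservesFiniteLimits (EtCoh.pull h)] (i : ℕ) (ξ : EtCoh.H X (EtCoh.Gm X) i) :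
    pullC g i (pullC f i ξ) = pullC h i ξ :=
  EtLimit.HpullThen_comp g f h w _ _ _ (EtLimit.globPull_comp _ _ g f h w) i ξ

theorem pullMu_comp (g : Z ⟶ Y) (h : Z ⟶ X) (w : g ≫ f = h)
    [PreservesFiniteLimits (EtCoh.pull f)] [PreservesFiniteLimits (EtCoh.pull g)]
    [PreservesFiniteLimits (EtCoh.pull h)] (i : ℕ) (ξ : EtCoh.H X (EtCoh.mu X n) i) :
    pullMu n g i (pullMu n f i ξ) = pullMu n h i ξ := by
  refine EtLimit.HpullThen_comp g f h w _ _ _ ?_ i ξ
  refine (cancel_mono (EtCoh.muι Z n)).1 ?_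
  have e := (θPull g f h w).hom.naturality (EtCoh.muι X n)
  rw [Category.assoc, muPull_ι, Category.assoc, muPull_ι, ← Functor.map_comp_assoc, muPull_ι, Functor.map_comp,
    Category.assoc]
  refine Eq.trans ?_ (congrArg (fun t => (EtCoh.pull g).map ((EtCoh.pull f).map (EtCoh.muι X n)) ≫ t)
    (EtLimit.globPull_comp EtCoh.ΓUnits EtCoh.isSheaf_ΓUnits g f h w))
  rw [← Category.assoc, ← e, Category.assoc]
  rfl

/-- The value at one of a map out of a constant sheaf `ℤ/n`. -/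
noncomputable def nVal {G : EtCoh.Ab X} (ψ : EtCoh.const X (ZMod n) ⟶ G) : (EtCore.gsec X).obj G :=
  (EtCore.constAdj X).homEquiv _ _ ψ (⟨1⟩ : ULift.{u + 1} (ZMod n))

theorem nVal_injective (G : EtCoh.Ab X) : Function.Injective (nVal n (G := G)) := by
  intro ψ ψ' h
  refine ((EtCore.constAdj X).homEquiv _ _).injective (AddCommGrpCat.ext fun m => ?_)
  obtain ⟨j, hj⟩ := ZMod.intCast_surjective m.down
  have hm : m = j • (⟨1⟩ : ULift.{u + 1} (ZMod n)) := ULift.ext _ _ (by simp [hj])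
  rw [hm, map_zsmul, map_zsmul]
  exact congrArg (j • ·) h

theorem nVal_comp {G G' : EtCoh.Ab X} (ψ : EtCoh.const X (ZMod n) ⟶ G) (a : G ⟶ G') :
    nVal n (ψ ≫ a) = (EtCore.gsec X).map a (nVal n ψ) := by
  unfold nVal
  rw [Adjunction.homEquiv_naturality_right]
  rfl

theorem nVal_pullConst {G : EtCoh.Ab X} (ψ : EtCoh.const X (ZMod n) ⟶ G) :
    nVal n ((EtCore.pullConst f (ZMod n)).inv ≫ (EtCoh.pull f).map ψ) = (pullSec f).app G (nVal n ψ) := by
  have h1 : nVal n (EtCore.pullConst f (ZMod n)).inv =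
      (pullSec f).app (EtCoh.const X (ZMod n))
        ((EtCore.constAdj X).unit.app (AddCommGrpCat.of (ULift.{u + 1} (ZMod n))) (⟨1⟩ : ULift.{u + 1} (ZMod n))) := by
    unfold nVal
    rw [homEquiv_pullConst_inv]
    rfl
  refine (nVal_comp n _ _).trans ?_
  rw [h1]
  have h2 := ConcreteCategory.congr_hom ((pullSec f).naturality ψ)
    ((EtCore.constAdj X).unit.app _ (⟨1⟩ : ULift.{u + 1} (ZMod n)))
  refine Eq.trans h2.symm (congrArg ((pullSec f).app G) ?_)
  exact (ConcreteCategory.congr_hom ((EtCore.constAdj X).homEquiv_unit _ _ ψ) (⟨1⟩ : ULift.{u + 1} (ZMod n))).symm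

open Groth.Agent.EtLC12.MuConst in
theorem nVal_constToGm [NeZero n] (ζ : Γ(X, ⊤)) (hζ : Polynomial.aeval ζ (Polynomial.cyclotomic n ℤ) = 0) :
    (gv (nVal n (constToGm ζ hζ)) : Γ((EtCoh.top X).left, ⊤)) = zA ζ (EtCoh.top X) := by
  have h : nVal n (constToGm ζ hζ) = ((η ζ hζ).app (op (EtCoh.top X))).hom (⟨1⟩ : ULift.{u + 1} (ZMod n)) := by
    refine Eq.trans ?_ (congrArg (fun t => (t.app (op (EtCoh.top X))).hom (⟨1⟩ : ULift.{u + 1} (ZMod n)))
      (toSheafify_constToGm ζ hζ))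
    rfl
  rw [h]
  show ((φ n _ (pow_zU ζ hζ (EtCoh.top X)) (1 : ZMod n)).toMul : Γ((EtCoh.top X).left, ⊤)) = _
  rw [← Nat.cast_one, φ_natCast]
  show (((isUnit_zA ζ hζ (EtCoh.top X)).unit ^ 1 : Γ((EtCoh.top X).left, ⊤)ˣ) : Γ((EtCoh.top X).left, ⊤)) = _
  rw [pow_one, IsUnit.unit_spec]

open Groth.Agent.EtLC12.MuConst in
theorem constToMu_pull [NeZero n] (ζ : Γ(X, ⊤)) (hζ : Polynomial.aeval ζ (Polynomial.cyclotomic n ℤ) = 0)
    (hζ' : Polynomial.aeval (f.appTop ζ) (Polynomial.cyclotomic n ℤ) = 0) :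
    (EtCore.pullConst f (ZMod n)).inv ≫ (EtCoh.pull f).map (constToMu ζ hζ) ≫ muPull n f =
      constToMu (f.appTop ζ) hζ' := by
  refine (cancel_mono (EtCoh.muι Y n)).1 ?_
  rw [Category.assoc, Category.assoc, muPull_ι, ← Functor.map_comp_assoc]
  refine Eq.trans ?_ (kernel.lift_ι _ _ _).symm
  show (EtCore.pullConst f (ZMod n)).inv ≫ (EtCoh.pull f).map (kernel.lift _ _ _ ≫ kernel.ι _) ≫ gmPull f = _
  rw [kernel.lift_ι]
  refine nVal_injective n _ ?_
  rw [← Category.assoc, nVal_comp, nVal_pullConst, pullSec_app]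
  have e : (EtCoh.pullPushAdj f).unit.app (EtCoh.Gm X) ≫ (EtCoh.push f).map (gmPull f) = EtLim.GmPush f :=
    ((EtCoh.pullPushAdj f).homEquiv_unit _ _ _).symm.trans (Equiv.apply_symm_apply _ _)
  refine (ConcreteCategory.congr_hom ((EtCore.pushGsecIso f).hom.naturality (gmPull f)) _).symm.trans ?_
  refine Eq.trans (congrArg ((EtCore.pushGsecIso f).hom.app (EtCoh.Gm Y))
    (show _ = (EtCore.gsec X).map (EtLim.GmPush f) (nVal n (constToGm ζ hζ)) from ?_)) ?_
  · rw [← e, Functor.map_comp]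
    rfl
  apply gv_ext
  rw [nVal_constToGm]
  show (EtCore.bcTopIso f).inv.left.appTop ((pullback.fst (EtCoh.top X).hom f).appTop
    (gv (nVal n (constToGm ζ hζ)) : Γ((EtCoh.top X).left, ⊤))) = zA (f.appTop ζ) (EtCoh.top Y)
  rw [nVal_constToGm]
  have h1 : (EtCore.bcTopIso f).inv.left ≫ pullback.fst (EtCoh.top X).hom f ≫ (EtCoh.top X).hom =
      (EtCoh.top Y).hom ≫ f := by
    rw [pullback.condition, ← Category.assoc]
    exact congrArg (· ≫ f) (MorphismProperty.Over.w (EtCore.bcTopIso f).inv)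
  have h2 := congrArg Scheme.Hom.appTop h1
  rw [Scheme.Hom.comp_appTop, Scheme.Hom.comp_appTop, Scheme.Hom.comp_appTop] at h2
  exact ConcreteCategory.congr_hom h2 ζ

open Groth.Agent.EtLC12.MuConst in
theorem isIso_muPull [NeZero n] (hu : IsUnit (n : Γ(X, ⊤))) (ζ : Γ(X, ⊤))
    (hζ : Polynomial.aeval ζ (Polynomial.cyclotomic n ℤ) = 0) : IsIso (muPull n f) := by
  have hu' : IsUnit (n : Γ(Y, ⊤)) := map_natCast f.appTop.hom n ▸ hu.map f.appTop.hom
  have hζ' : Polynomial.aeval (f.appTop ζ) (Polynomial.cyclotomic n ℤ) = 0 := by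
    rw [Polynomial.aeval_def, ← Polynomial.eval_map]
    have := congrArg f.appTop.hom hζ
    rw [map_zero, Polynomial.aeval_def, Polynomial.hom_eval₂] at this
    rw [Polynomial.eval_map, Subsingleton.elim (algebraMap ℤ Γ(Y, ⊤)) _]
    exact this
  haveI := isIso_constToMu hu ζ hζ
  haveI := isIso_constToMu hu' (f.appTop ζ) hζ'
  have h := constToMu_pull n f ζ hζ hζ'
  rw [← Category.assoc] at h
  haveI : IsIso (((EtCore.pullConst f (ZMod n)).inv ≫ (EtCoh.pull f).map (constToMu ζ hζ)) ≫ muPull n f) := by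
    rw [h]; infer_instance
  exact IsIso.of_isIso_comp_left ((EtCore.pullConst f (ZMod n)).inv ≫ (EtCoh.pull f).map (constToMu ζ hζ)) _

end Groth.Agent.CurveH2
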