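import Groth.Agent.CurveH2.Kum
import Groth.Agent.GabberAff13.FieldBij
import Groth.Agent.EtTrace.CohDim
import Groth.Agent.EtBC.BcStalk

/-!
# Rigidity of classes with coefficients in roots of unity along a henselian arc
-/

set_option autoImplicit false
set_option backward.isDefEq.respectTransparency false
set_option backward.isDefEq.respectTransparency.types false
set_option linter.style.haveILetI false

universe u

open CategoryTheory CategoryTheory.Limits AlgebraicGeometry Opposite CategoryTheory.Abelian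

namespace Groth.Agent.CurveH2

variable {X Y Z : Scheme.{u}} (n : ℕ)

/-- Inverse image is exact. -/
local instance pfl {X Y : Scheme.{u}} (f : X ⟶ Y) : PreservesFiniteLimits (EtCoh.pull f) :=
  EtFound.pull_preservesFiniteLimits f

theorem aeval_appTop (f : Y ⟶ X) (ζ : Γ(X, ⊤)) {P : Polynomial ℤ} (h : Polynomial.aeval ζ P = 0) :
    Polynomial.aeval (f.appTop ζ) P = 0 := by
  have := congrArg f.appTop.hom h
  rw [map_zero, Polynomial.aeval_def, Polynomial.hom_eval₂] at this
  rw [Polynomial.aeval_def, Subsingleton.elim (algebraMap ℤ Γ(Y, ⊤)) _]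
  exact this

theorem mu_nsmul_id (X : Scheme.{u}) : n • 𝟙 (EtCoh.mu X n) = 0 := by
  refine (cancel_mono (EtCoh.muι X n)).1 ?_
  rw [zero_comp, Preadditive.nsmul_comp, Category.id_comp]
  calc n • EtCoh.muι X n = EtCoh.muι X n ≫ EtCoh.powMap X n := by
        rw [EtCoh.powMap, Preadditive.comp_nsmul, Category.comp_id]
    _ = 0 := kernel.condition _

theorem isTorsion_mu [NeZero n] (X : Scheme.{u}) : EtCoh.IsTorsion (EtCoh.mu X n) :=
  EtTrace.isTorsion_of_nsmul_id (Nat.pos_of_ne_zero (NeZero.ne n)) (mu_nsmul_id n X)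

theorem bijective_pullMu (f : Y ⟶ X) [PreservesFiniteLimits (EtCoh.pull f)] [IsIso (muPull n f)] (i : ℕ)
    (h : Function.Bijective (EtCore.Hpull f (EtCoh.mu X n) i)) : Function.Bijective (pullMu n f i) := by
  show Function.Bijective fun ξ => EtLim.HpullThen f (EtCoh.mu X n) (muPull n f) i ξ
  exact (EtBC.hmap_bijective (muPull n f) i).comp h

variable {k : Type u} [Field k] {C : Scheme.{u}} (f : C ⟶ Spec (CommRingCat.of k))

/-- Over a henselian arc through `b` a class on `C × V` restricts to the pullback of its value at `b`. -/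
theorem pullMu_arc [NeZero n] [IsProper f] {V : Scheme.{u}} (g : V ⟶ Spec (CommRingCat.of k))
    (A : Type u) [CommRing A] [HenselianLocalRing A] (ι : Spec (CommRingCat.of A) ⟶ V)
    (b : Spec (CommRingCat.of k) ⟶ V) (hb : b ≫ g = 𝟙 _)
    (hιb : Spec.map (CommRingCat.ofHom (IsLocalRing.residue A)) ≫ ι =
      Spec.map (CommRingCat.ofHom (IsLocalRing.residue A)) ≫ ι ≫ g ≫ b)
    (hu : IsUnit (n : Γ(C, ⊤))) (ζ : Γ(C, ⊤))
    (hζ : Polynomial.aeval ζ (Polynomial.cyclotomic n ℤ) = 0)
    (κ : EtCoh.H (pullback f g) (EtCoh.mu (pullback f g) n) 2)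
    {T : Scheme.{u}} (p : T ⟶ pullback f g) (a : T ⟶ Spec (CommRingCat.of A))
    (ha : p ≫ pullback.snd f g = a ≫ ι) :
    pullMu n p 2 κ = pullMu n (p ≫ pullback.fst f g) 2
      (pullMu n (pullback.lift (𝟙 C) (f ≫ b) (by rw [Category.id_comp, Category.assoc, hb, Category.comp_id])) 2 κ) := by
  let s := pullback.lift (𝟙 C) (f ≫ b)
    (show 𝟙 C ≫ f = (f ≫ b) ≫ g by rw [Category.id_comp, Category.assoc, hb, Category.comp_id])
  let ρ := Spec.map (CommRingCat.ofHom (IsLocalRing.residue A))
  let r := pullback.fst (pullback.snd f g) ι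
  let πA := pullback.snd (pullback.snd f g) ι
  let q := r ≫ pullback.fst f g
  let i₀ := pullback.fst πA ρ
  haveI : IsProper πA := MorphismProperty.pullback_snd _ _ (MorphismProperty.pullback_snd f g ‹IsProper f›)
  have e₀ : i₀ ≫ r = ((i₀ ≫ q) ≫ s) := by
    refine pullback.hom_ext ?_ ?_
    · simp only [s, q, Category.assoc, pullback.lift_fst, Category.comp_id]
    · simp only [s, q, Category.assoc, pullback.lift_snd, pullback.condition_assoc]
      show pullback.fst πA ρ ≫ r ≫ pullback.snd f g =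
        pullback.fst πA ρ ≫ r ≫ pullback.snd f g ≫ g ≫ b
      simp only [r, pullback.condition_assoc, pullback.condition]
      show pullback.fst πA ρ ≫ πA ≫ ι = pullback.fst πA ρ ≫ πA ≫ ι ≫ g ≫ b
      rw [pullback.condition_assoc, pullback.condition_assoc, hιb]
  have key : pullMu n r 2 κ = pullMu n q 2 (pullMu n s 2 κ) := by
    have hu' : IsUnit (n : Γ(pullback (pullback.snd f g) ι, ⊤)) := map_natCast q.appTop.hom n ▸ hu.map q.appTop.hom
    have hζ' : Polynomial.aeval (q.appTop ζ) (Polynomial.cyclotomic n ℤ) = 0 := aeval_appTop q ζ hζ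
    haveI : IsIso (muPull n i₀) := isIso_muPull n i₀ hu' _ hζ'
    refine (bijective_pullMu n i₀ 2 (GabberAff13.bijective_Hpull_closedFibre A πA _ (isTorsion_mu n _) 2)).1 ?_
    rw [pullMu_comp n r i₀ (i₀ ≫ r) rfl 2 κ, pullMu_comp n q i₀ (i₀ ≫ q) rfl 2,
      pullMu_comp n s (i₀ ≫ q) (i₀ ≫ r) e₀.symm 2 κ]
  let φ := pullback.lift p a ha
  have hφ : φ ≫ r = p := pullback.lift_fst _ _ _
  rw [← pullMu_comp n r φ p hφ 2 κ, key]
  exact pullMu_comp n q φ _ (by rw [← Category.assoc, hφ]) 2 _

end Groth.Agent.CurveH2
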