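import Groth.Agent.CurveH2.CoordPoint
import Groth.Agent.CurveH2.Rigid
import Mathlib.RingTheory.AdicCompletion.LocalRing
import Mathlib.RingTheory.Henselian
import Mathlib.AlgebraicGeometry.AlgClosed.Basic
import Mathlib.FieldTheory.IsAlgClosed.AlgebraicClosure

/-!
# All points of a proper smooth curve have the same class
-/

set_option autoImplicit false
set_option backward.isDefEq.respectTransparency false
set_option backward.isDefEq.respectTransparency.types false
set_option linter.style.haveILetI false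

universe u

open CategoryTheory CategoryTheory.Limits AlgebraicGeometry Opposite TopologicalSpace

namespace Groth.Agent.CurveH2

/-- Inverse image is exact. -/
local instance pfl' {X Y : Scheme.{u}} (f : X ⟶ Y) : PreservesFiniteLimits (EtCoh.pull f) :=
  EtFound.pull_preservesFiniteLimits f

/-- The completion of a Noetherian local ring is henselian. -/
theorem henselian_completion (A : Type u) [CommRing A] [IsLocalRing A] [IsNoetherianRing A] :
    HenselianLocalRing (AdicCompletion (IsLocalRing.maximalIdeal A) A) where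
  is_henselian p hp a₀ h₁ h₂ :=
    (IsAdicComplete.henselianRing (AdicCompletion (IsLocalRing.maximalIdeal A) A)
      (IsLocalRing.maximalIdeal (AdicCompletion (IsLocalRing.maximalIdeal A) A))).is_henselian p hp a₀ h₁ (h₂.map _)

variable {k : Type u} [Field k]

/-- A map from the spectrum of a field through a rational point is the constant map. -/
theorem eq_constant {V : Scheme.{u}} (g : V ⟶ Spec (CommRingCat.of k)) (b : Spec (CommRingCat.of k) ⟶ V)
    (hb : b ≫ g = 𝟙 _) {K : Type u} [Field K] (φ : Spec (CommRingCat.of K) ⟶ V)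
    (hφ : φ (IsLocalRing.closedPoint K) = b (IsLocalRing.closedPoint k)) : φ = φ ≫ g ≫ b := by
  let x := b (IsLocalRing.closedPoint k)
  let β := Scheme.descResidueField (Scheme.stalkClosedPointTo b)
  have hβ : Spec.map β ≫ V.fromSpecResidueField x = b :=
    Scheme.descResidueField_stalkClosedPointTo_fromSpecResidueField k V b
  obtain ⟨σ, hσ⟩ := Spec.map_surjective (V.fromSpecResidueField x ≫ g)
  have h1 : σ ≫ β = 𝟙 _ := Spec.map_injective (by rw [Spec.map_comp, hσ, ← Category.assoc, hβ, hb, Spec.map_id])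
  haveI : IsIso β := by
    refine (ConcreteCategory.isIso_iff_bijective β).2 ⟨β.hom.injective, fun a => ⟨σ a, ?_⟩⟩
    exact ConcreteCategory.congr_hom h1 a
  have e : V.fromSpecResidueField x = V.fromSpecResidueField x ≫ g ≫ b := by
    refine (cancel_epi (Spec.map β)).1 ?_
    rw [← Category.assoc (Spec.map β), hβ, ← Category.assoc, hb, Category.id_comp]
  obtain ⟨⟨y, ψ⟩, rfl⟩ := (Scheme.SpecToEquivOfField K V).symm.surjective φ
  change Spec.map ψ ≫ V.fromSpecResidueField y = (Spec.map ψ ≫ V.fromSpecResidueField y) ≫ g ≫ b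
  obtain rfl : y = x := by
    refine Eq.trans ?_ hφ
    exact (Scheme.fromSpecResidueField_apply y _).symm
  rw [Category.assoc, ← e]

/-- A henselian arc at a rational point with a point over the generic point. -/
theorem exists_arc {V : Scheme.{u}} [IsIntegral V] [IsLocallyNoetherian V]
    (g : V ⟶ Spec (CommRingCat.of k)) (b : Spec (CommRingCat.of k) ⟶ V) (hb : b ≫ g = 𝟙 _) :
    ∃ (A : Type u) (_ : CommRing A) (_ : HenselianLocalRing A) (ι : Spec (CommRingCat.of A) ⟶ V),
      (Spec.map (CommRingCat.ofHom (IsLocalRing.residue A)) ≫ ι =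
        Spec.map (CommRingCat.ofHom (IsLocalRing.residue A)) ≫ ι ≫ g ≫ b) ∧
      ∃ (L : Type u) (_ : Field L) (e : Spec (CommRingCat.of L) ⟶ Spec (CommRingCat.of A)),
        (e ≫ ι) (IsLocalRing.closedPoint L) = genericPoint V := by
  let x := b (IsLocalRing.closedPoint k)
  let O := V.presheaf.stalk x
  let A := AdicCompletion (IsLocalRing.maximalIdeal O) O
  let ρ : O →+* A := algebraMap O A
  haveI : IsLocalHom ρ := inferInstanceAs (IsLocalHom (algebraMap O A))
  haveI := henselian_completion O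
  let ι : Spec (CommRingCat.of A) ⟶ V := Spec.map (CommRingCat.ofHom ρ) ≫ V.fromSpecStalk x
  refine ⟨A, inferInstance, inferInstance, ι, ?_, ?_⟩
  · rw [← Category.assoc _ ι, ← Category.assoc, ← Category.assoc]
    refine (eq_constant g b hb _ ?_).trans (by simp only [Category.assoc])
    show V.fromSpecStalk x (Spec.map (CommRingCat.ofHom ρ)
      (Spec.map (CommRingCat.ofHom (IsLocalRing.residue A)) (IsLocalRing.closedPoint (IsLocalRing.ResidueField A)))) = x
    have : Spec.map (CommRingCat.ofHom ρ) (Spec.map (CommRingCat.ofHom (IsLocalRing.residue A))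
        (IsLocalRing.closedPoint (IsLocalRing.ResidueField A))) = IsLocalRing.closedPoint O := by
      haveI : IsLocalHom (CommRingCat.ofHom (IsLocalRing.residue A)).hom := inferInstanceAs (IsLocalHom (IsLocalRing.residue A))
      haveI : IsLocalHom (CommRingCat.ofHom ρ).hom := ‹IsLocalHom ρ›
      rw [Spec_closedPoint]
      exact Spec_closedPoint (f := CommRingCat.ofHom ρ)
    rw [this]
    exact Scheme.fromSpecStalk_closedPoint
  · have hinj : Function.Injective ρ := AdicCompletion.of_injective _ _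
    obtain ⟨P, hP, hPc⟩ := Ideal.exists_comap_eq_of_mem_minimalPrimes_of_injective hinj (⊥ : Ideal O)
      (by simp [IsDomain.minimalPrimes_eq_singleton_bot])
    haveI := hP
    let L := (P : Ideal A).ResidueField
    refine ⟨L, inferInstance, Spec.map (CommRingCat.ofHom (algebraMap A L)), ?_⟩
    refine (((genericPoint_spec V).specializes trivial).antisymm ?_).eq.symm
    obtain ⟨z, hz⟩ : genericPoint V ∈ Set.range (V.fromSpecStalk x) := by
      rw [Scheme.range_fromSpecStalk]; exact (genericPoint_spec V).specializes trivial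
    show V.fromSpecStalk x (Spec.map (CommRingCat.ofHom ρ) (Spec.map (CommRingCat.ofHom (algebraMap A L))
      (IsLocalRing.closedPoint L))) ⤳ genericPoint V
    rw [← hz]
    refine Specializes.map ((PrimeSpectrum.le_iff_specializes _ _).1 ?_) (V.fromSpecStalk x).continuous
    show Ideal.comap ρ (Ideal.comap (algebraMap A L) (IsLocalRing.maximalIdeal L)) ≤ z.asIdeal
    rw [IsLocalRing.isField_iff_maximalIdeal_eq.1 (Field.toIsField L)]
    show Ideal.comap ρ (RingHom.ker (algebraMap A L)) ≤ _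
    rw [Ideal.ker_algebraMap_residueField, hPc]
    exact bot_le

variable [IsAlgClosed k] {C : Scheme.{u}} (f : C ⟶ Spec (CommRingCat.of k))
  [IsProper f] [IsIntegral C] (n : ℕ) [NeZero n]

include f in
omit [IsProper f] [IsIntegral C] in
theorem exists_root (hn : (n : k) ≠ 0) :
    ∃ ζ : Γ(C, ⊤), Polynomial.aeval ζ (Polynomial.cyclotomic n ℤ) = 0 := by
  obtain ⟨z, hz⟩ := IsAlgClosed.exists_root ((Polynomial.cyclotomic n ℤ).map (algebraMap ℤ k)) (by
    rw [Polynomial.map_cyclotomic, Polynomial.degree_cyclotomic]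
    exact_mod_cast (Nat.totient_pos.2 (Nat.pos_of_ne_zero (NeZero.ne n))).ne')
  let φ : k →+* Γ(C, ⊤) := ((Scheme.ΓSpecIso (CommRingCat.of k)).inv ≫ f.appTop).hom
  refine ⟨φ z, ?_⟩
  have := congrArg φ hz
  rw [map_zero, Polynomial.eval_map, Polynomial.hom_eval₂] at this
  rw [Polynomial.aeval_def, Subsingleton.elim (algebraMap ℤ Γ(C, ⊤)) _]
  exact this

theorem isUnit_n (hn : (n : k) ≠ 0) {X : Scheme.{u}} (g : X ⟶ Spec (CommRingCat.of k)) :
    IsUnit (n : Γ(X, ⊤)) :=
  map_natCast ((Scheme.ΓSpecIso (CommRingCat.of k)).inv ≫ g.appTop).hom n ▸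
    (Ne.isUnit hn).map ((Scheme.ΓSpecIso (CommRingCat.of k)).inv ≫ g.appTop).hom

/-- Points in a common coordinate domain have the same class. -/
theorem kδ_eq_of_coord (c : Coord f) (hn : (n : k) ≠ 0)
    (b₁ b₂ : Spec (CommRingCat.of k) ⟶ c.V.toScheme) (hb₁ : b₁ ≫ c.str = 𝟙 _) (hb₂ : b₂ ≫ c.str = 𝟙 _)
    (hx₁ : IsClosed ({c.pt b₁} : Set C)) (hx₂ : IsClosed ({c.pt b₂} : Set C))
    {c₁ c₂ : EtCoh.H C (EtCoh.Gm C) 1} (h₁ : IsPointClass (c.pt b₁) hx₁ c₁)
    (h₂ : IsPointClass (c.pt b₂) hx₂ c₂) :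
    kδ n (isUnit_n n hn f) c₁ = kδ n (isUnit_n n hn f) c₂ := by
  haveI : Nonempty c.V.toScheme := ⟨b₁ (IsLocalRing.closedPoint k)⟩
  haveI : IsIntegral c.V.toScheme := isIntegral_of_isOpenImmersion c.V.ι
  haveI : IsLocallyNoetherian c.V.toScheme := LocallyOfFiniteType.isLocallyNoetherian c.str
  obtain ⟨d, hd⟩ := exists_hasDiff c.A_sup_B c.wΔ
  let hu := isUnit_n n hn (pullback.fst f c.str ≫ f)
  have hsec : ∀ (b : Spec (CommRingCat.of k) ⟶ c.V.toScheme) (hb : b ≫ c.str = 𝟙 _)
      (hx : IsClosed ({c.pt b} : Set C)) (e : EtCoh.H C (EtCoh.Gm C) 1), IsPointClass (c.pt b) hx e →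
      pullMu n (c.sec b hb) 2 (kδ n hu d) = kδ n (isUnit_n n hn f) e := by
    intro b hb hx e he
    rw [kδ_pull n (c.sec b hb) hu (isUnit_n n hn f), he.unique (c.isPointClass_sec b hb hx hd)]
  rw [← hsec b₁ hb₁ hx₁ c₁ h₁, ← hsec b₂ hb₂ hx₂ c₂ h₂]
  obtain ⟨A₁, _, _, ι₁, hι₁, L₁, _, e₁, he₁⟩ := exists_arc c.str b₁ hb₁
  obtain ⟨A₂, _, _, ι₂, hι₂, L₂, _, e₂, he₂⟩ := exists_arc c.str b₂ hb₂
  obtain ⟨z, -, -⟩ := Scheme.Pullback.exists_preimage_pullback (f := e₁ ≫ ι₁) (g := e₂ ≫ ι₂)
    (IsLocalRing.closedPoint L₁) (IsLocalRing.closedPoint L₂) (he₁.trans he₂.symm)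
  let Z := pullback (e₁ ≫ ι₁) (e₂ ≫ ι₂)
  let K := AlgebraicClosure (Z.residueField z)
  let χ : Spec (CommRingCat.of K) ⟶ Z :=
    Spec.map (CommRingCat.ofHom (algebraMap (Z.residueField z) K)) ≫ Z.fromSpecResidueField z
  let η := χ ≫ pullback.fst (e₁ ≫ ι₁) (e₂ ≫ ι₂) ≫ e₁ ≫ ι₁
  let gK := η ≫ c.str
  let T := pullback f gK
  let p : T ⟶ c.P := pullback.lift (pullback.fst f gK) (pullback.snd f gK ≫ η)
    (by rw [Category.assoc]; exact pullback.condition)
  have key₁ := pullMu_arc n f c.str A₁ ι₁ b₁ hb₁ hι₁ (isUnit_n n hn f) _ (exists_root f n hn).choose_spec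
    (kδ n hu d) p (pullback.snd f gK ≫ χ ≫ pullback.fst _ _ ≫ e₁)
    (by simp only [p, η, pullback.lift_snd, Category.assoc])
  have key₂ := pullMu_arc n f c.str A₂ ι₂ b₂ hb₂ hι₂ (isUnit_n n hn f) _ (exists_root f n hn).choose_spec
    (kδ n hu d) p (pullback.snd f gK ≫ χ ≫ pullback.snd _ _ ≫ e₂)
    (by
      simp only [p, η, pullback.lift_snd, Category.assoc]
      rw [pullback.condition (f := e₁ ≫ ι₁) (g := e₂ ≫ ι₂)])
  have e := key₁.symm.trans key₂
  haveI : IsIso (muPull n (p ≫ pullback.fst f c.str)) :=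
    isIso_muPull n _ (isUnit_n n hn f) _ (exists_root f n hn).choose_spec
  refine (bijective_pullMu n (p ≫ pullback.fst f c.str) 2 ?_).1 e
  have hp : p ≫ pullback.fst f c.str = pullback.fst f gK := pullback.lift_fst _ _ _
  exact GabberAff13.bijective_Hpull_field f gK (f' := pullback.snd f gK)
    (by rw [hp]; exact IsPullback.of_hasPullback f gK) _ (isTorsion_mu n C) 2

/-- All closed points have the same class. -/
theorem kδ_pointClass_eq [Smooth f] (hdim : topologicalKrullDim C = 1) (hn : (n : k) ≠ 0)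
    (hdim' : ∀ y : C, y ≠ genericPoint C → IsClosed ({y} : Set C))
    (hdvr : ∀ y : C, IsClosed ({y} : Set C) → IsDiscreteValuationRing (C.presheaf.stalk y))
    [NoetherianSpace C] [QuasiSober C]
    {x y : C} (hx : IsClosed ({x} : Set C)) (hy : IsClosed ({y} : Set C))
    {cx cy : EtCoh.H C (EtCoh.Gm C) 1} (hcx : IsPointClass x hx cx) (hcy : IsPointClass y hy cy) :
    kδ n (isUnit_n n hn f) cx = kδ n (isUnit_n n hn f) cy := by
  haveI : JacobsonSpace C := LocallyOfFiniteType.jacobsonSpace f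
  have main : ∀ (c : Coord f) (u v : C) (hu : IsClosed ({u} : Set C)) (hv : IsClosed ({v} : Set C))
      (cu cv : EtCoh.H C (EtCoh.Gm C) 1), u ∈ c.V → v ∈ c.V → IsPointClass u hu cu → IsPointClass v hv cv →
      kδ n (isUnit_n n hn f) cu = kδ n (isUnit_n n hn f) cv := by
    intro c u v hu hv cu cv huV hvV hcu hcv
    have mk : ∀ (w : C) (hw : IsClosed ({w} : Set C)), w ∈ c.V →
        ∃ (b : Spec (CommRingCat.of k) ⟶ c.V.toScheme) (_ : b ≫ c.str = 𝟙 _), c.pt b = w := by
      intro w hw hwV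
      let z := (pointEquivClosedPoint f).symm ⟨w, hw⟩
      have hz : z.1 (IsLocalRing.closedPoint k) = w := by
        have := congrArg Subtype.val ((pointEquivClosedPoint f).apply_symm_apply ⟨w, hw⟩)
        rwa [pointEquivClosedPoint_apply_coe] at this
      have hr : Set.range z.1 ⊆ Set.range c.V.ι := by
        rintro _ ⟨t, rfl⟩
        rw [Scheme.Opens.range_ι, show t = IsLocalRing.closedPoint k from Subsingleton.elim _ _, hz]
        exact hwV
      refine ⟨IsOpenImmersion.lift c.V.ι z.1 hr, ?_, ?_⟩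
      · show _ ≫ c.V.ι ≫ f = _
        rw [IsOpenImmersion.lift_fac_assoc]
        exact z.2
      · show c.V.ι _ = w
        rw [← Scheme.Hom.comp_apply, IsOpenImmersion.lift_fac]
        exact hz
    obtain ⟨b₁, hb₁, rfl⟩ := mk u hu huV
    obtain ⟨b₂, hb₂, rfl⟩ := mk v hv hvV
    exact kδ_eq_of_coord f n c hn b₁ b₂ hb₁ hb₂ hu hv hcu hcv
  obtain ⟨cX, hxV⟩ := exists_coord f hdim x
  obtain ⟨cY, hyV⟩ := exists_coord f hdim y
  have hne : ((cX.V ⊓ cY.V : C.Opens) : Set C).Nonempty :=
    ⟨genericPoint C, ((genericPoint_spec C).mem_open_set_iff cX.V.isOpen).2 (by simpa using ⟨x, hxV⟩),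
      ((genericPoint_spec C).mem_open_set_iff cY.V.isOpen).2 (by simpa using ⟨y, hyV⟩)⟩
  obtain ⟨w, hwmem, hw⟩ := nonempty_inter_closedPoints (X := C) hne (cX.V ⊓ cY.V).isOpen.isLocallyClosed
  haveI := hdvr w hw
  obtain ⟨cw, hcw⟩ := exists_isPointClass hdim' (show IsClosed ({w} : Set C) from hw)
  exact (main cX x w hx hw cx cw hxV hwmem.1 hcx hcw).trans (main cY w y hw hy cw cy hwmem.2 hyV hcw hcy)

end Groth.Agent.CurveH2
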