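import Groth.Agent.CurveH2.Moving
import Groth.Agent.CurveH2.Basics
import Groth.Agent.S0227
import Mathlib.AlgebraicGeometry.Morphisms.Finite

/-!
# Vanishing of the second cohomology of roots of unity on an affine open of a proper curve
-/

set_option autoImplicit false
set_option backward.isDefEq.respectTransparency false
set_option backward.isDefEq.respectTransparency.types false
set_option linter.style.haveILetI false

universe u

open CategoryTheory CategoryTheory.Limits AlgebraicGeometry Opposite TopologicalSpace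

namespace Groth.Agent.CurveH2

open Groth.Agent.AModX

/-- Inverse image is exact. -/
local instance pfl'' {X Y : Scheme.{u}} (f : X ⟶ Y) : PreservesFiniteLimits (EtCoh.pull f) :=
  EtFound.pull_preservesFiniteLimits f

/-- The class of a point restricts to the class of the point on an open. -/
theorem IsPointClass.pull_open {C U : Scheme.{u}} (j : U ⟶ C) [IsOpenImmersion j] {x : U}
    {hx : IsClosed ({j x} : Set C)} {c : EtCoh.H C (EtCoh.Gm C) 1} (h : IsPointClass (j x) hx c)
    (hx' : IsClosed ({x} : Set U)) : IsPointClass x hx' (pullC j 1 c) := by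
  obtain ⟨W, hW, t, w, hw, ht, hd⟩ := h
  have hA : offPt U x hx' ≤ j ⁻¹ᵁ offPt C (j x) hx := fun y hy h => hy (j.isOpenEmbedding.injective h)
  refine ⟨j ⁻¹ᵁ W, hW, j.app W t, _, ?_, ?_, (hd.pull j).refine hA le_rfl⟩
  · show resR (inf_le_inf hA (le_refl (j ⁻¹ᵁ W)) : offPt U x hx' ⊓ j ⁻¹ᵁ W ≤ j ⁻¹ᵁ (offPt C (j x) hx ⊓ W))
      (j.app (offPt C (j x) hx ⊓ W) (w : Γ(C, offPt C (j x) hx ⊓ W))) = _
    rw [hw]
    refine ConcreteCategory.congr_hom (?_ : C.presheaf.map (homOfLE (inf_le_right :
      offPt C (j x) hx ⊓ W ≤ W)).op ≫ j.app _ ≫ U.presheaf.map (homOfLE (inf_le_inf hA (le_refl (j ⁻¹ᵁ W)))).op =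
      j.app W ≫ U.presheaf.map (homOfLE (inf_le_right : offPt U x hx' ⊓ j ⁻¹ᵁ W ≤ j ⁻¹ᵁ W)).op) t
    rw [← Category.assoc, Scheme.Hom.naturality, Category.assoc, ← Functor.map_comp]
    rfl
  · rw [← Scheme.Hom.germ_stalkMap_apply j W x hW t, ← Set.image_singleton, ← Ideal.map_span, ht]
    let e := (asIso (j.stalkMap x)).commRingCatIsoToRingEquiv
    haveI : (Ideal.map (j.stalkMap x).hom (IsLocalRing.maximalIdeal (C.presheaf.stalk (j x)))).IsMaximal :=
      Ideal.map_isMaximal_of_equiv e (p := IsLocalRing.maximalIdeal (C.presheaf.stalk (j x)))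
    exact IsLocalRing.eq_maximalIdeal this

variable {k : Type u} [Field k] [IsAlgClosed k]

/-- In a nonempty open of an integral curve the generic point is not closed. -/
theorem not_isClosed_generic {U C : Scheme.{u}} (f : C ⟶ Spec (CommRingCat.of k)) [LocallyOfFiniteType f]
    [IsIntegral C] (hdim : topologicalKrullDim C = 1) (j : U ⟶ C) [IsOpenImmersion j] [IrreducibleSpace U] :
    ¬ IsClosed ({genericPoint U} : Set U) := by
  intro hx
  haveI : JacobsonSpace C := LocallyOfFiniteType.jacobsonSpace f
  have huniv : ({genericPoint U} : Set U) = Set.univ := by rw [← hx.closure_eq]; exact genericPoint_spec U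
  have hrange : Set.range j = {genericPoint C} := by
    rw [← Set.image_univ, ← huniv, Set.image_singleton, genericPoint_eq_of_isOpenImmersion j]
  obtain ⟨w, hw, hwc⟩ := nonempty_inter_closedPoints (X := C) (Z := Set.range j)
    (hrange ▸ Set.singleton_nonempty _) j.isOpenEmbedding.isOpen_range.isLocallyClosed
  rw [hrange, Set.mem_singleton_iff] at hw
  subst hw
  have huC : ({genericPoint C} : Set C) = Set.univ := by
    rw [← (mem_closedPoints_iff.1 hwc).closure_eq]; exact genericPoint_spec C
  haveI : Subsingleton C := ⟨fun p q => by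
    have hp : p ∈ ({genericPoint C} : Set C) := huC ▸ trivial
    have hq : q ∈ ({genericPoint C} : Set C) := huC ▸ trivial
    exact hp.trans hq.symm⟩
  have := topologicalKrullDim_zero_of_discreteTopology C
  rw [hdim] at this
  exact absurd this (by norm_num)

/-- An affine open of a proper integral curve is not everything. -/
theorem exists_not_mem_range {U C : Scheme.{u}} (f : C ⟶ Spec (CommRingCat.of k)) [IsProper f] [IsIntegral C]
    (hdim : topologicalKrullDim C = 1) (j : U ⟶ C) [IsOpenImmersion j] [IsAffine U] :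
    ∃ z : C, z ∉ Set.range j := by
  by_contra h
  push Not at h
  haveI : Surjective j := ⟨h⟩
  haveI : Epi j.base := (TopCat.epi_iff_surjective _).2 h
  haveI : IsIso j := IsOpenImmersion.isIso j
  haveI : IsAffine C := IsAffine.of_isIso (inv j)
  haveI : IsFinite f := IsFinite.iff_isProper_and_isAffineHom.2 ⟨inferInstance, inferInstance⟩
  haveI : JacobsonSpace C := LocallyOfFiniteType.jacobsonSpace f
  haveI : Finite C := by
    have hfin : (f ⁻¹' {IsLocalRing.closedPoint k}).Finite := f.finite_preimage_singleton _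
    rw [show f ⁻¹' {IsLocalRing.closedPoint k} = Set.univ from
      Set.eq_univ_of_forall fun x => Subsingleton.elim (α := Spec (CommRingCat.of k)) _ _] at hfin
    exact Set.finite_univ_iff.1 hfin
  have : topologicalKrullDim C ≤ 0 := topologicalKrullDim_zero_of_discreteTopology C
  rw [hdim] at this
  exact absurd this (by norm_num)

/-- `H²(U, μ_n) = 0` for an affine open of a smooth proper curve. -/
theorem subsingleton_H2_mu_open {U C : Scheme.{u}} (f : C ⟶ Spec (CommRingCat.of k)) [IsProper f] [Smooth f]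
    [IsIntegral C] (hdim : topologicalKrullDim C = 1) (j : U ⟶ C) [IsOpenImmersion j] [IsAffine U] [Nonempty U]
    (n : ℕ) (hn : (n : k) ≠ 0) : Subsingleton (EtCoh.H U (EtCoh.mu U n) 2) := by
  haveI : NeZero n := ⟨fun h => hn (by rw [h, Nat.cast_zero])⟩
  haveI : IsIntegral U := isIntegral_of_isOpenImmersion j
  haveI : IsLocallyNoetherian C := LocallyOfFiniteType.isLocallyNoetherian f
  haveI : CompactSpace C := QuasiCompact.compactSpace_of_compactSpace f
  haveI : AlgebraicGeometry.IsNoetherian C := {}
  haveI : IsLocallyNoetherian U := LocallyOfFiniteType.isLocallyNoetherian (j ≫ f)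
  haveI : AlgebraicGeometry.IsNoetherian U := {}
  have hgU : j (genericPoint U) = genericPoint C := genericPoint_eq_of_isOpenImmersion j
  have hdimU : topologicalKrullDim U ≤ 1 :=
    (j.isOpenEmbedding.isInducing.topologicalKrullDim_le).trans hdim.le
  haveI : JacobsonSpace U := LocallyOfFiniteType.jacobsonSpace (j ≫ f)
  have hdimU1 : topologicalKrullDim U = 1 := by
    refine le_antisymm hdimU ?_
    obtain ⟨x, -, hx⟩ := nonempty_inter_closedPoints (X := U) Set.univ_nonempty isClosed_univ.isLocallyClosed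
    refine Order.one_le_krullDim_iff.2 ⟨⟨closure {x}, isIrreducible_singleton.closure, isClosed_closure⟩,
      ⟨Set.univ, IrreducibleSpace.isIrreducible_univ U, isClosed_univ⟩, ?_⟩
    rw [← SetLike.coe_ssubset_coe]
    refine ⟨Set.subset_univ _, fun hle => ?_⟩
    have hg : genericPoint U ∈ closure ({x} : Set U) := hle trivial
    rw [(mem_closedPoints_iff.1 hx).closure_eq, Set.mem_singleton_iff] at hg
    exact not_isClosed_generic f hdim j (hg ▸ mem_closedPoints_iff.1 hx)
  haveI : Subsingleton (EtCoh.H U (EtCoh.Gm U) 2) := S0227.result k U (j ≫ f) hdimU1 2 le_rfl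
  haveI : JacobsonSpace U := LocallyOfFiniteType.jacobsonSpace (j ≫ f)
  haveI : JacobsonSpace C := LocallyOfFiniteType.jacobsonSpace f
  obtain ⟨z, hz⟩ := exists_not_mem_range f hdim j
  have hzc : IsClosed ({z} : Set C) := isClosed_of_ne_generic hdim.le fun h => hz ⟨_, hgU.trans h.symm⟩
  refine subsingleton_of_forall_eq 0 fun ξ => ?_
  obtain ⟨L, rfl⟩ := kδ_surjective n (isUnit_n n hn (j ≫ f)) ξ
  have hL : L ∈ AddSubgroup.closure (pointClasses U) :=
    mem_closure_pointClasses (fun y hy => isClosed_of_ne_generic hdimU hy)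
      (fun y hy => isDVR_stalk (j ≫ f) hdimU1 y hy) L
  refine AddMonoidHom.mem_ker.1 ((AddSubgroup.closure_le _).2 ?_ hL)
  rintro c ⟨x, hx, hcx⟩
  show kδ n _ c = 0
  have hjx : IsClosed ({j x} : Set C) := isClosed_of_ne_generic hdim.le fun h => by
    have hxg : x = genericPoint U := j.isOpenEmbedding.injective (h.trans hgU.symm)
    exact not_isClosed_generic f hdim j (hxg ▸ hx)
  haveI := isDVR_stalk f hdim z hzc
  haveI := isDVR_stalk f hdim (j x) hjx
  have hclC : ∀ y : C, y ≠ genericPoint C → IsClosed ({y} : Set C) := fun y hy => isClosed_of_ne_generic hdim.le hy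
  obtain ⟨cz, hcz⟩ := exists_isPointClass hclC hzc
  obtain ⟨cC, hcC⟩ := exists_isPointClass hclC hjx
  have he := kδ_pointClass_eq f n hdim hn hclC (isDVR_stalk f hdim) hjx hzc hcC hcz
  rw [hcx.unique (hcC.pull_open j hx), ← kδ_pull n j (isUnit_n n hn f), he,
    kδ_pull n j (isUnit_n n hn f) (isUnit_n n hn (j ≫ f))]
  suffices h0 : pullC j 1 cz = 0 by rw [h0, map_zero]
  obtain ⟨W, hW, t, w, -, -, hd⟩ := hcz
  obtain ⟨q, a, b, hq, ha, -, -⟩ := hd.pull j
  rw [← hq]
  exact cls_eq_zero_of_isLift_top ha (top_le_iff.1 fun y _ h => hz ⟨y, h⟩)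

end Groth.Agent.CurveH2
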