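import Groth.Agent.GmH1Lib.Pic
import Groth.Agent.EtFound.PullExt
import Groth.Agent.EtLC12.EtZarCompare


/-!
# Classes of degree one of `G_m` cut out by a unit on an overlap

For a fixed injective resolution `0 → G_m → I → Q` a class in `H¹(X, G_m)` comes from a global section of
`Q`; the class "has difference `u` on the cover `A, B`" if that section lifts over `A` and over `B` to
sections differing by the unit `u`.
-/

set_option autoImplicit false
set_option backward.isDefEq.respectTransparency false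
set_option backward.isDefEq.respectTransparency.types false

universe u

open CategoryTheory CategoryTheory.Limits AlgebraicGeometry Opposite TopologicalSpace CategoryTheory.Abelian

namespace Groth.Agent.CurveH2

open Groth.Agent.EtFound Groth.Agent.GmH1Lib Groth.Agent.AModX

variable {X : Scheme.{u}}

/-- A fixed injective embedding of `G_m` with its cokernel. -/
noncomputable def res (X : Scheme.{u}) : InjectivePresentation (EtCoh.Gm X) :=
  Classical.arbitrary _

/-- The middle term. -/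
noncomputable abbrev rI (X : Scheme.{u}) : EtCoh.Ab X := (res X).shortComplex.X₂

/-- The last term. -/
noncomputable abbrev rQ (X : Scheme.{u}) : EtCoh.Ab X := (res X).shortComplex.X₃

/-- The inclusion. -/
noncomputable abbrev rf (X : Scheme.{u}) : EtCoh.Gm X ⟶ rI X := (res X).shortComplex.f

/-- The projection. -/
noncomputable abbrev rg (X : Scheme.{u}) : rI X ⟶ rQ X := (res X).shortComplex.g

instance : Injective (rI X) := (res X).injective

theorem res_shortExact (X : Scheme.{u}) : (ShortComplex.mk (rf X) (rg X) (res X).shortComplex.zero).ShortExact :=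
  (res X).shortExact_shortComplex

theorem res_shortExact' (X : Scheme.{u}) : (res X).shortComplex.ShortExact := (res X).shortExact_shortComplex

/-- The class of a global section of the last term. -/
noncomputable def cls (q : (rQ X).obj.obj (op (EtCoh.top X))) : EtCoh.H X (EtCoh.Gm X) 1 :=
  (Ext.mk₀ (ofVal (Z := X) (G := rQ X) q)).comp (res_shortExact' X).extClass (zero_add 1)

theorem ofVal_constVal {G : EtCoh.Ab X} (ψ : EtCoh.const X ℤ ⟶ G) : ofVal (constVal ψ) = ψ :=
  (constVal_bijective G).1 (constVal_ofVal _)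

theorem ofVal_add {G : EtCoh.Ab X} (a b : (EtCore.gsec X).obj G) :
    ofVal (a + b) = ofVal a + ofVal b := by
  refine (constVal_bijective G).1 ?_
  rw [constVal_ofVal]
  refine Eq.trans ?_ (constVal_eq (ofVal a + ofVal b)).symm
  exact (congrArg₂ (· + ·) (constVal_ofVal a).symm (constVal_ofVal b).symm).trans
    (congrArg₂ (· + ·) (constVal_eq (ofVal a)) (constVal_eq (ofVal b)))

/-- The class as an additive map. -/
noncomputable def clsHom (X : Scheme.{u}) : (rQ X).obj.obj (op (EtCoh.top X)) →+ EtCoh.H X (EtCoh.Gm X) 1 :=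
  AddMonoidHom.mk' cls fun a b => by
    rw [cls, ofVal_add, Ext.mk₀_add, Ext.add_comp]
    rfl

theorem clsHom_apply (q : (rQ X).obj.obj (op (EtCoh.top X))) : clsHom X q = cls q := rfl

theorem cls_add (a b : (rQ X).obj.obj (op (EtCoh.top X))) : cls (a + b) = cls a + cls b := (clsHom X).map_add a b

theorem cls_sub (a b : (rQ X).obj.obj (op (EtCoh.top X))) : cls (a - b) = cls a - cls b := (clsHom X).map_sub a b

theorem cls_surjective (c : EtCoh.H X (EtCoh.Gm X) 1) : ∃ q, cls q = c := by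
  obtain ⟨y, hy⟩ := Ext.covariant_sequence_exact₁ _ (res_shortExact' X) c (Ext.eq_zero_of_injective _)
    (n₀ := 0) rfl
  obtain ⟨ψ, rfl⟩ := (Ext.mk₀_bijective _ _).2 y
  exact ⟨constVal ψ, by rw [cls, ofVal_constVal]; exact hy⟩

theorem cls_g (s : (rI X).obj.obj (op (EtCoh.top X))) : cls (((rg X).hom.app _).hom s) = 0 := by
  have h : ofVal (Z := X) (G := rQ X) (((rg X).hom.app _).hom s) = ofVal (G := rI X) s ≫ rg X := by
    refine (constVal_bijective _).1 ?_
    rw [constVal_ofVal, constVal_comp, constVal_ofVal]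
    rfl
  rw [cls, h, ← Ext.mk₀_comp_mk₀_assoc]
  refine (congrArg (fun t => (Ext.mk₀ (ofVal (G := rI X) s)).comp t (zero_add 1))
    (ShortComplex.ShortExact.comp_extClass (res_shortExact' X))).trans ?_
  exact Ext.comp_zero (Ext.mk₀ (ofVal (G := rI X) s)) _ _ _ _

/-- A lift of a global section over an open. -/
def IsLift (q : (rQ X).obj.obj (op (EtCoh.top X))) (V : X.Opens) (a : (rI X).obj.obj (op (ZO V))) : Prop :=
  ((rg X).hom.app (op (ZO V))).hom a = ((rQ X).obj.map (toTop V).op).hom q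

theorem IsLift.rmap {q : (rQ X).obj.obj (op (EtCoh.top X))} {V W : X.Opens} {a : (rI X).obj.obj (op (ZO V))}
    (h : IsLift q V a) (hWV : W ≤ V) : IsLift q W (rmap (rI X) hWV a) := by
  rw [IsLift, rmap_nat, h]
  exact (map_map (rQ X) _ _ q).trans
    (congrArg (fun e => ((rQ X).obj.map (Quiver.Hom.op e)).hom q) ((topIsTerminal X).hom_ext _ _))

theorem IsLift.add_unit {q : (rQ X).obj.obj (op (EtCoh.top X))} {V : X.Opens} {a : (rI X).obj.obj (op (ZO V))}
    (h : IsLift q V a) (s : (EtCoh.Gm X).obj.obj (op (ZO V))) :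
    IsLift q V (a + ((rf X).hom.app (op (ZO V))).hom s) := by
  rw [IsLift, map_add, h]
  have h0 : ((rg X).hom.app (op (ZO V))).hom (((rf X).hom.app (op (ZO V))).hom s) = 0 :=
    congrArg (fun φ : EtCoh.Gm X ⟶ rQ X => (φ.hom.app (op (ZO V))).hom s) (res X).shortComplex.zero
  rw [h0, add_zero]

theorem IsLift.sub {q q' : (rQ X).obj.obj (op (EtCoh.top X))} {V : X.Opens} {a a' : (rI X).obj.obj (op (ZO V))}
    (h : IsLift q V a) (h' : IsLift q' V a') : IsLift (q - q') V (a - a') := by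
  rw [IsLift, map_sub, map_sub, h, h']

/-- The class `c` is given by the unit `w` on the cover `A`, `B`. -/
def HasDiff (A B : X.Opens) (w : Γ(X, A ⊓ B)ˣ) (c : EtCoh.H X (EtCoh.Gm X) 1) : Prop :=
  ∃ (q : (rQ X).obj.obj (op (EtCoh.top X))) (a : (rI X).obj.obj (op (ZO A))) (b : (rI X).obj.obj (op (ZO B))),
    cls q = c ∧ IsLift q A a ∧ IsLift q B b ∧
      rmap (rI X) inf_le_left a - rmap (rI X) inf_le_right b = ((rf X).hom.app (op (ZO (A ⊓ B)))).hom (umk w)

theorem bool_cover {A B : X.Opens} (h : A ⊔ B = ⊤) (x : X) :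
    ∃ i : ULift.{u} Bool, x ∈ (if i.down then A else B : X.Opens) := by
  rcases (show x ∈ A ∨ x ∈ B from (h ▸ Opens.mem_top x : x ∈ A ⊔ B)) with hA | hB
  · exact ⟨⟨true⟩, hA⟩
  · exact ⟨⟨false⟩, hB⟩

/-- Two sections agreeing on an overlap glue. -/
theorem exists_glue_two (F : EtCoh.Ab X) {A B : X.Opens} (h : A ⊔ B = ⊤)
    (a : F.obj.obj (op (ZO A))) (b : F.obj.obj (op (ZO B)))
    (hab : rmap F (inf_le_left : A ⊓ B ≤ A) a = rmap F (inf_le_right : A ⊓ B ≤ B) b) :
    ∃ t : F.obj.obj (op (EtCoh.top X)),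
      (F.obj.map (toTop A).op).hom t = a ∧ (F.obj.map (toTop B).op).hom t = b := by
  let V : ULift.{u} Bool → X.Opens := fun i => if i.down then A else B
  let s : ∀ i, F.obj.obj (op (ZO (V i))) := fun i => match i with
    | ⟨true⟩ => a
    | ⟨false⟩ => b
  obtain ⟨t, ht⟩ := exists_glue F V (bool_cover h) s (by
    rintro ⟨i⟩ ⟨j⟩
    cases i <;> cases j
    · rfl
    · have := congrArg (rmap F (le_inf inf_le_right inf_le_left : B ⊓ A ≤ A ⊓ B)) hab
      rw [rmap_rmap, rmap_rmap] at this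
      exact this.symm
    · exact hab
    · rfl)
  exact ⟨t, ht ⟨true⟩, ht ⟨false⟩⟩

/-- Global sections are determined on a cover. -/
theorem ext_two (F : EtCoh.Ab X) {A B : X.Opens} (h : A ⊔ B = ⊤) {s t : F.obj.obj (op (EtCoh.top X))}
    (hA : (F.obj.map (toTop A).op).hom s = (F.obj.map (toTop A).op).hom t)
    (hB : (F.obj.map (toTop B).op).hom s = (F.obj.map (toTop B).op).hom t) : s = t :=
  ext_cover F (fun i : ULift.{u} Bool => if i.down then A else B) (bool_cover h) s t
    (fun i => match i with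
      | ⟨true⟩ => hA
      | ⟨false⟩ => hB)

/-- A section lifting on a cover to agreeing sections has trivial class. -/
theorem cls_eq_zero_of_glue {q : (rQ X).obj.obj (op (EtCoh.top X))} {A B : X.Opens} (h : A ⊔ B = ⊤)
    {a : (rI X).obj.obj (op (ZO A))} {b : (rI X).obj.obj (op (ZO B))} (ha : IsLift q A a) (hb : IsLift q B b)
    (hab : rmap (rI X) (inf_le_left : A ⊓ B ≤ A) a = rmap (rI X) (inf_le_right : A ⊓ B ≤ B) b) : cls q = 0 := by
  obtain ⟨t, htA, htB⟩ := exists_glue_two (rI X) h a b hab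
  have : ((rg X).hom.app _).hom t = q := by
    refine ext_two (rQ X) h ?_ ?_
    · refine (NatTrans.naturality_apply (rg X).hom (toTop A).op t).symm.trans ?_
      rw [htA]; exact ha
    · refine (NatTrans.naturality_apply (rg X).hom (toTop B).op t).symm.trans ?_
      rw [htB]; exact hb
  rw [← this, cls_g]

theorem surjective_rmap (V W : X.Opens) (h : W ≤ V) : Function.Surjective (rmap (rI X) h) := by
  haveI : Mono ((EtZar.zarToEt X).map (homOfLE h)) := ⟨fun a b _ => hom_open_ext a b⟩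
  haveI : Injective (rI X).obj :=
    Injective.injective_of_adjoint (sheafificationAdjunction X.smallEtaleTopology AddCommGrpCat.{u + 1}) (rI X)
  exact EtLC12.EtZarCompare.surjective_map_of_mono (rI X).obj _

/-- Every unit on an overlap gives a class. -/
theorem exists_hasDiff {A B : X.Opens} (h : A ⊔ B = ⊤) (w : Γ(X, A ⊓ B)ˣ) : ∃ c, HasDiff A B w c := by
  obtain ⟨a, ha⟩ := surjective_rmap A (A ⊓ B) inf_le_left (((rf X).hom.app (op (ZO (A ⊓ B)))).hom (umk w))
  have h0 : ((rg X).hom.app (op (ZO (A ⊓ B)))).hom (((rf X).hom.app (op (ZO (A ⊓ B)))).hom (umk w)) = 0 :=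
    congrArg (fun φ : EtCoh.Gm X ⟶ rQ X => (φ.hom.app (op (ZO (A ⊓ B)))).hom (umk w)) (res X).shortComplex.zero
  obtain ⟨q, hqA, hqB⟩ := exists_glue_two (rQ X) h (((rg X).hom.app (op (ZO A))).hom a) 0 (by
    rw [← rmap_nat, ha, h0, map_zero])
  refine ⟨cls q, q, a, 0, rfl, hqA.symm, ?_, by rw [map_zero, sub_zero, ha]⟩
  rw [IsLift, map_zero]
  exact hqB.symm

theorem HasDiff.sub {A B : X.Opens} {w w' : Γ(X, A ⊓ B)ˣ} {c c' : EtCoh.H X (EtCoh.Gm X) 1}
    (h : HasDiff A B w c) (h' : HasDiff A B w' c') : HasDiff A B (w / w') (c - c') := by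
  obtain ⟨q, a, b, hc, ha, hb, hd⟩ := h
  obtain ⟨q', a', b', hc', ha', hb', hd'⟩ := h'
  refine ⟨q - q', a - a', b - b', by rw [cls_sub, hc, hc'], ha.sub ha', hb.sub hb', ?_⟩
  have e : umk (w / w') = umk w - umk w' := by
    rw [eq_sub_iff_add_eq, ← umk_mul, div_mul_cancel]
  rw [e, map_sub, map_sub, map_sub, ← hd, ← hd']
  abel

theorem umk_one (V : X.Opens) : (umk (1 : Γ(X, V)ˣ) : (EtCoh.Gm X).obj.obj (op (ZO V))) = 0 := by
  have h := umk_mul (1 : Γ(X, V)ˣ) 1
  rw [one_mul] at h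
  exact left_eq_add.1 h

theorem eq_zero_of_hasDiff_one {A B : X.Opens} (h : A ⊔ B = ⊤) {c : EtCoh.H X (EtCoh.Gm X) 1}
    (hc : HasDiff A B 1 c) : c = 0 := by
  obtain ⟨q, a, b, rfl, ha, hb, hd⟩ := hc
  refine cls_eq_zero_of_glue h ha hb ?_
  rw [← sub_eq_zero, hd, umk_one, map_zero]

/-- The class is determined by the unit. -/
theorem HasDiff.unique {A B : X.Opens} (h : A ⊔ B = ⊤) {w : Γ(X, A ⊓ B)ˣ} {c c' : EtCoh.H X (EtCoh.Gm X) 1}
    (hc : HasDiff A B w c) (hc' : HasDiff A B w c') : c = c' :=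
  sub_eq_zero.1 (eq_zero_of_hasDiff_one h (div_self' w ▸ hc.sub hc'))

theorem umk_rU_div {A B V : X.Opens} (hA : V ≤ A) (hB : V ≤ B) (rA : Γ(X, A)ˣ) (rB : Γ(X, B)ˣ) :
    (umk (Units.map (resR hA).toMonoidHom rA / Units.map (resR hB).toMonoidHom rB) :
        (EtCoh.Gm X).obj.obj (op (ZO V))) =
      rmap (EtCoh.Gm X) hA (umk rA) - rmap (EtCoh.Gm X) hB (umk rB) := by
  rw [rmap_umk hA rA (Units.map (resR hA).toMonoidHom rA) rfl,
    rmap_umk hB rB (Units.map (resR hB).toMonoidHom rB) rfl, eq_sub_iff_add_eq, ← umk_mul, div_mul_cancel]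

/-- Changing the unit by a coboundary does not change the class. -/
theorem HasDiff.change {A B : X.Opens} {w w' : Γ(X, A ⊓ B)ˣ} {c : EtCoh.H X (EtCoh.Gm X) 1}
    (hc : HasDiff A B w c) (rA : Γ(X, A)ˣ) (rB : Γ(X, B)ˣ)
    (h : w' = w * (Units.map (resR (inf_le_left : A ⊓ B ≤ A)).toMonoidHom rA /
      Units.map (resR (inf_le_right : A ⊓ B ≤ B)).toMonoidHom rB)) :
    HasDiff A B w' c := by
  obtain ⟨q, a, b, hq, ha, hb, hd⟩ := hc
  refine ⟨q, a + ((rf X).hom.app (op (ZO A))).hom (umk rA), b + ((rf X).hom.app (op (ZO B))).hom (umk rB),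
    hq, ha.add_unit _, hb.add_unit _, ?_⟩
  rw [h, umk_mul, umk_rU_div, map_add, map_add, map_add, map_sub, ← rmap_nat, ← rmap_nat, ← hd]
  abel

/-- Shrinking the cover. -/
theorem HasDiff.refine {A B A' B' : X.Opens} {w : Γ(X, A ⊓ B)ˣ} {c : EtCoh.H X (EtCoh.Gm X) 1}
    (hc : HasDiff A B w c) (hA : A' ≤ A) (hB : B' ≤ B) :
    HasDiff A' B' (Units.map (resR (inf_le_inf hA hB)).toMonoidHom w) c := by
  obtain ⟨q, a, b, hq, ha, hb, hd⟩ := hc
  refine ⟨q, rmap (rI X) hA a, rmap (rI X) hB b, hq, ha.rmap hA, hb.rmap hB, ?_⟩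
  rw [← rmap_umk (inf_le_inf hA hB) w _ rfl, rmap_nat, ← hd, map_sub, rmap_rmap, rmap_rmap, rmap_rmap, rmap_rmap]

end Groth.Agent.CurveH2
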